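import Cfsg.Agent.Lib.ToddCox.J1T.P0
set_option autoImplicit false
set_option maxRecDepth 100000
namespace Cfsg.Agent.Lib.ToddCox.J1T
theorem covered : Covered Eo inv W isH 22054 54224 := (Covered.trans (Covered.trans (Covered.trans (Covered.trans c0 c1) (Covered.trans c2 c3)) (Covered.trans (Covered.trans c4 c5) (Covered.trans c6 c7))) (Covered.trans (Covered.trans (Covered.trans c8 c9) (Covered.trans c10 c11)) (Covered.trans (Covered.trans c12 c13) (Covered.trans c14 (Covered.trans c15 c16)))))
theorem links : LinksOK Eo cF (2 * nEv) N ys 0 266 := (LinksOK.trans k0 k1)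
theorem defs : ∀ c, c < nDef → chkDef Eo inv c = true := defs_of_bits 22054 13 3 (by norm_num) (by
  intro j hj
  interval_cases j
  · exact d0
  · exact d1
  · exact d2
  )
theorem words : ∀ j, j < nW → wordsOK W (relR Rb inv) inv sp j = true := allBelow_spec (by norm_num [nW]) wordsGood
end Cfsg.Agent.Lib.ToddCox.J1T
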