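import Cfsg.Agent.Lib.ToddCox.J1T.Data0
set_option autoImplicit false
set_option maxRecDepth 100000
namespace Cfsg.Agent.Lib.ToddCox.J1T
def eT_1_3 (j : ℕ) : ℕ := bif Nat.blt j 2 then E_1 else E_2
def eT_0_3 (j : ℕ) : ℕ := bif Nat.blt j 1 then E_0 else (eT_1_3 j)
def eT_4_6 (j : ℕ) : ℕ := bif Nat.blt j 5 then E_4 else E_5
def eT_3_6 (j : ℕ) : ℕ := bif Nat.blt j 4 then E_3 else (eT_4_6 j)
def eT_0_6 (j : ℕ) : ℕ := bif Nat.blt j 3 then (eT_0_3 j) else (eT_3_6 j)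
def eT_7_9 (j : ℕ) : ℕ := bif Nat.blt j 8 then E_7 else E_8
def eT_6_9 (j : ℕ) : ℕ := bif Nat.blt j 7 then E_6 else (eT_7_9 j)
def eT_9_11 (j : ℕ) : ℕ := bif Nat.blt j 10 then E_9 else E_10
def eT_11_13 (j : ℕ) : ℕ := bif Nat.blt j 12 then E_11 else E_12
def eT_9_13 (j : ℕ) : ℕ := bif Nat.blt j 11 then (eT_9_11 j) else (eT_11_13 j)
def eT_6_13 (j : ℕ) : ℕ := bif Nat.blt j 9 then (eT_6_9 j) else (eT_9_13 j)
def eT_0_13 (j : ℕ) : ℕ := bif Nat.blt j 6 then (eT_0_6 j) else (eT_6_13 j)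
def eT_14_16 (j : ℕ) : ℕ := bif Nat.blt j 15 then E_14 else E_15
def eT_13_16 (j : ℕ) : ℕ := bif Nat.blt j 14 then E_13 else (eT_14_16 j)
def eT_17_19 (j : ℕ) : ℕ := bif Nat.blt j 18 then E_17 else E_18
def eT_16_19 (j : ℕ) : ℕ := bif Nat.blt j 17 then E_16 else (eT_17_19 j)
def eT_13_19 (j : ℕ) : ℕ := bif Nat.blt j 16 then (eT_13_16 j) else (eT_16_19 j)
def eT_20_22 (j : ℕ) : ℕ := bif Nat.blt j 21 then E_20 else E_21
def eT_19_22 (j : ℕ) : ℕ := bif Nat.blt j 20 then E_19 else (eT_20_22 j)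
def eT_22_24 (j : ℕ) : ℕ := bif Nat.blt j 23 then E_22 else E_23
def eT_24_26 (j : ℕ) : ℕ := bif Nat.blt j 25 then E_24 else E_25
def eT_22_26 (j : ℕ) : ℕ := bif Nat.blt j 24 then (eT_22_24 j) else (eT_24_26 j)
def eT_19_26 (j : ℕ) : ℕ := bif Nat.blt j 22 then (eT_19_22 j) else (eT_22_26 j)
def eT_13_26 (j : ℕ) : ℕ := bif Nat.blt j 19 then (eT_13_19 j) else (eT_19_26 j)
def eT_0_26 (j : ℕ) : ℕ := bif Nat.blt j 13 then (eT_0_13 j) else (eT_13_26 j)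
def eT_27_29 (j : ℕ) : ℕ := bif Nat.blt j 28 then E_27 else E_28
def eT_26_29 (j : ℕ) : ℕ := bif Nat.blt j 27 then E_26 else (eT_27_29 j)
def eT_30_32 (j : ℕ) : ℕ := bif Nat.blt j 31 then E_30 else E_31
def eT_29_32 (j : ℕ) : ℕ := bif Nat.blt j 30 then E_29 else (eT_30_32 j)
def eT_26_32 (j : ℕ) : ℕ := bif Nat.blt j 29 then (eT_26_29 j) else (eT_29_32 j)
def eT_33_35 (j : ℕ) : ℕ := bif Nat.blt j 34 then E_33 else E_34
def eT_32_35 (j : ℕ) : ℕ := bif Nat.blt j 33 then E_32 else (eT_33_35 j)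
def eT_35_37 (j : ℕ) : ℕ := bif Nat.blt j 36 then E_35 else E_36
def eT_37_39 (j : ℕ) : ℕ := bif Nat.blt j 38 then E_37 else E_38
def eT_35_39 (j : ℕ) : ℕ := bif Nat.blt j 37 then (eT_35_37 j) else (eT_37_39 j)
def eT_32_39 (j : ℕ) : ℕ := bif Nat.blt j 35 then (eT_32_35 j) else (eT_35_39 j)
def eT_26_39 (j : ℕ) : ℕ := bif Nat.blt j 32 then (eT_26_32 j) else (eT_32_39 j)
def eT_40_42 (j : ℕ) : ℕ := bif Nat.blt j 41 then E_40 else E_41
def eT_39_42 (j : ℕ) : ℕ := bif Nat.blt j 40 then E_39 else (eT_40_42 j)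
def eT_42_44 (j : ℕ) : ℕ := bif Nat.blt j 43 then E_42 else E_43
def eT_44_46 (j : ℕ) : ℕ := bif Nat.blt j 45 then E_44 else E_45
def eT_42_46 (j : ℕ) : ℕ := bif Nat.blt j 44 then (eT_42_44 j) else (eT_44_46 j)
def eT_39_46 (j : ℕ) : ℕ := bif Nat.blt j 42 then (eT_39_42 j) else (eT_42_46 j)
def eT_47_49 (j : ℕ) : ℕ := bif Nat.blt j 48 then E_47 else E_48
def eT_46_49 (j : ℕ) : ℕ := bif Nat.blt j 47 then E_46 else (eT_47_49 j)
def eT_49_51 (j : ℕ) : ℕ := bif Nat.blt j 50 then E_49 else E_50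
def eT_51_53 (j : ℕ) : ℕ := bif Nat.blt j 52 then E_51 else E_52
def eT_49_53 (j : ℕ) : ℕ := bif Nat.blt j 51 then (eT_49_51 j) else (eT_51_53 j)
def eT_46_53 (j : ℕ) : ℕ := bif Nat.blt j 49 then (eT_46_49 j) else (eT_49_53 j)
def eT_39_53 (j : ℕ) : ℕ := bif Nat.blt j 46 then (eT_39_46 j) else (eT_46_53 j)
def eT_26_53 (j : ℕ) : ℕ := bif Nat.blt j 39 then (eT_26_39 j) else (eT_39_53 j)
def eT_0_53 (j : ℕ) : ℕ := bif Nat.blt j 26 then (eT_0_26 j) else (eT_26_53 j)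
def eT_54_56 (j : ℕ) : ℕ := bif Nat.blt j 55 then E_54 else E_55
def eT_53_56 (j : ℕ) : ℕ := bif Nat.blt j 54 then E_53 else (eT_54_56 j)
def eT_57_59 (j : ℕ) : ℕ := bif Nat.blt j 58 then E_57 else E_58
def eT_56_59 (j : ℕ) : ℕ := bif Nat.blt j 57 then E_56 else (eT_57_59 j)
def eT_53_59 (j : ℕ) : ℕ := bif Nat.blt j 56 then (eT_53_56 j) else (eT_56_59 j)
def eT_60_62 (j : ℕ) : ℕ := bif Nat.blt j 61 then E_60 else E_61
def eT_59_62 (j : ℕ) : ℕ := bif Nat.blt j 60 then E_59 else (eT_60_62 j)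
def eT_62_64 (j : ℕ) : ℕ := bif Nat.blt j 63 then E_62 else E_63
def eT_64_66 (j : ℕ) : ℕ := bif Nat.blt j 65 then E_64 else E_65
def eT_62_66 (j : ℕ) : ℕ := bif Nat.blt j 64 then (eT_62_64 j) else (eT_64_66 j)
def eT_59_66 (j : ℕ) : ℕ := bif Nat.blt j 62 then (eT_59_62 j) else (eT_62_66 j)
def eT_53_66 (j : ℕ) : ℕ := bif Nat.blt j 59 then (eT_53_59 j) else (eT_59_66 j)
def eT_67_69 (j : ℕ) : ℕ := bif Nat.blt j 68 then E_67 else E_68
def eT_66_69 (j : ℕ) : ℕ := bif Nat.blt j 67 then E_66 else (eT_67_69 j)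
def eT_70_72 (j : ℕ) : ℕ := bif Nat.blt j 71 then E_70 else E_71
def eT_69_72 (j : ℕ) : ℕ := bif Nat.blt j 70 then E_69 else (eT_70_72 j)
def eT_66_72 (j : ℕ) : ℕ := bif Nat.blt j 69 then (eT_66_69 j) else (eT_69_72 j)
def eT_73_75 (j : ℕ) : ℕ := bif Nat.blt j 74 then E_73 else E_74
def eT_72_75 (j : ℕ) : ℕ := bif Nat.blt j 73 then E_72 else (eT_73_75 j)
def eT_75_77 (j : ℕ) : ℕ := bif Nat.blt j 76 then E_75 else E_76
def eT_77_79 (j : ℕ) : ℕ := bif Nat.blt j 78 then E_77 else E_78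
def eT_75_79 (j : ℕ) : ℕ := bif Nat.blt j 77 then (eT_75_77 j) else (eT_77_79 j)
def eT_72_79 (j : ℕ) : ℕ := bif Nat.blt j 75 then (eT_72_75 j) else (eT_75_79 j)
def eT_66_79 (j : ℕ) : ℕ := bif Nat.blt j 72 then (eT_66_72 j) else (eT_72_79 j)
def eT_53_79 (j : ℕ) : ℕ := bif Nat.blt j 66 then (eT_53_66 j) else (eT_66_79 j)
def eT_80_82 (j : ℕ) : ℕ := bif Nat.blt j 81 then E_80 else E_81
def eT_79_82 (j : ℕ) : ℕ := bif Nat.blt j 80 then E_79 else (eT_80_82 j)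
def eT_83_85 (j : ℕ) : ℕ := bif Nat.blt j 84 then E_83 else E_84
def eT_82_85 (j : ℕ) : ℕ := bif Nat.blt j 83 then E_82 else (eT_83_85 j)
def eT_79_85 (j : ℕ) : ℕ := bif Nat.blt j 82 then (eT_79_82 j) else (eT_82_85 j)
def eT_86_88 (j : ℕ) : ℕ := bif Nat.blt j 87 then E_86 else E_87
def eT_85_88 (j : ℕ) : ℕ := bif Nat.blt j 86 then E_85 else (eT_86_88 j)
def eT_88_90 (j : ℕ) : ℕ := bif Nat.blt j 89 then E_88 else E_89
def eT_90_92 (j : ℕ) : ℕ := bif Nat.blt j 91 then E_90 else E_91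
def eT_88_92 (j : ℕ) : ℕ := bif Nat.blt j 90 then (eT_88_90 j) else (eT_90_92 j)
def eT_85_92 (j : ℕ) : ℕ := bif Nat.blt j 88 then (eT_85_88 j) else (eT_88_92 j)
def eT_79_92 (j : ℕ) : ℕ := bif Nat.blt j 85 then (eT_79_85 j) else (eT_85_92 j)
def eT_93_95 (j : ℕ) : ℕ := bif Nat.blt j 94 then E_93 else E_94
def eT_92_95 (j : ℕ) : ℕ := bif Nat.blt j 93 then E_92 else (eT_93_95 j)
def eT_95_97 (j : ℕ) : ℕ := bif Nat.blt j 96 then E_95 else E_96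
def eT_97_99 (j : ℕ) : ℕ := bif Nat.blt j 98 then E_97 else E_98
def eT_95_99 (j : ℕ) : ℕ := bif Nat.blt j 97 then (eT_95_97 j) else (eT_97_99 j)
def eT_92_99 (j : ℕ) : ℕ := bif Nat.blt j 95 then (eT_92_95 j) else (eT_95_99 j)
def eT_100_102 (j : ℕ) : ℕ := bif Nat.blt j 101 then E_100 else E_101
def eT_99_102 (j : ℕ) : ℕ := bif Nat.blt j 100 then E_99 else (eT_100_102 j)
def eT_102_104 (j : ℕ) : ℕ := bif Nat.blt j 103 then E_102 else E_103
def eT_104_106 (j : ℕ) : ℕ := bif Nat.blt j 105 then E_104 else E_105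
def eT_102_106 (j : ℕ) : ℕ := bif Nat.blt j 104 then (eT_102_104 j) else (eT_104_106 j)
def eT_99_106 (j : ℕ) : ℕ := bif Nat.blt j 102 then (eT_99_102 j) else (eT_102_106 j)
def eT_92_106 (j : ℕ) : ℕ := bif Nat.blt j 99 then (eT_92_99 j) else (eT_99_106 j)
def eT_79_106 (j : ℕ) : ℕ := bif Nat.blt j 92 then (eT_79_92 j) else (eT_92_106 j)
def eT_53_106 (j : ℕ) : ℕ := bif Nat.blt j 79 then (eT_53_79 j) else (eT_79_106 j)
def eT_0_106 (j : ℕ) : ℕ := bif Nat.blt j 53 then (eT_0_53 j) else (eT_53_106 j)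
def eT_107_109 (j : ℕ) : ℕ := bif Nat.blt j 108 then E_107 else E_108
def eT_106_109 (j : ℕ) : ℕ := bif Nat.blt j 107 then E_106 else (eT_107_109 j)
def eT_110_112 (j : ℕ) : ℕ := bif Nat.blt j 111 then E_110 else E_111
def eT_109_112 (j : ℕ) : ℕ := bif Nat.blt j 110 then E_109 else (eT_110_112 j)
def eT_106_112 (j : ℕ) : ℕ := bif Nat.blt j 109 then (eT_106_109 j) else (eT_109_112 j)
def eT_113_115 (j : ℕ) : ℕ := bif Nat.blt j 114 then E_113 else E_114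
def eT_112_115 (j : ℕ) : ℕ := bif Nat.blt j 113 then E_112 else (eT_113_115 j)
def eT_115_117 (j : ℕ) : ℕ := bif Nat.blt j 116 then E_115 else E_116
def eT_117_119 (j : ℕ) : ℕ := bif Nat.blt j 118 then E_117 else E_118
def eT_115_119 (j : ℕ) : ℕ := bif Nat.blt j 117 then (eT_115_117 j) else (eT_117_119 j)
def eT_112_119 (j : ℕ) : ℕ := bif Nat.blt j 115 then (eT_112_115 j) else (eT_115_119 j)
def eT_106_119 (j : ℕ) : ℕ := bif Nat.blt j 112 then (eT_106_112 j) else (eT_112_119 j)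
def eT_120_122 (j : ℕ) : ℕ := bif Nat.blt j 121 then E_120 else E_121
def eT_119_122 (j : ℕ) : ℕ := bif Nat.blt j 120 then E_119 else (eT_120_122 j)
def eT_123_125 (j : ℕ) : ℕ := bif Nat.blt j 124 then E_123 else E_124
def eT_122_125 (j : ℕ) : ℕ := bif Nat.blt j 123 then E_122 else (eT_123_125 j)
def eT_119_125 (j : ℕ) : ℕ := bif Nat.blt j 122 then (eT_119_122 j) else (eT_122_125 j)
def eT_126_128 (j : ℕ) : ℕ := bif Nat.blt j 127 then E_126 else E_127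
def eT_125_128 (j : ℕ) : ℕ := bif Nat.blt j 126 then E_125 else (eT_126_128 j)
def eT_128_130 (j : ℕ) : ℕ := bif Nat.blt j 129 then E_128 else E_129
def eT_130_132 (j : ℕ) : ℕ := bif Nat.blt j 131 then E_130 else E_131
def eT_128_132 (j : ℕ) : ℕ := bif Nat.blt j 130 then (eT_128_130 j) else (eT_130_132 j)
def eT_125_132 (j : ℕ) : ℕ := bif Nat.blt j 128 then (eT_125_128 j) else (eT_128_132 j)
def eT_119_132 (j : ℕ) : ℕ := bif Nat.blt j 125 then (eT_119_125 j) else (eT_125_132 j)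
def eT_106_132 (j : ℕ) : ℕ := bif Nat.blt j 119 then (eT_106_119 j) else (eT_119_132 j)
def eT_133_135 (j : ℕ) : ℕ := bif Nat.blt j 134 then E_133 else E_134
def eT_132_135 (j : ℕ) : ℕ := bif Nat.blt j 133 then E_132 else (eT_133_135 j)
def eT_136_138 (j : ℕ) : ℕ := bif Nat.blt j 137 then E_136 else E_137
def eT_135_138 (j : ℕ) : ℕ := bif Nat.blt j 136 then E_135 else (eT_136_138 j)
def eT_132_138 (j : ℕ) : ℕ := bif Nat.blt j 135 then (eT_132_135 j) else (eT_135_138 j)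
def eT_139_141 (j : ℕ) : ℕ := bif Nat.blt j 140 then E_139 else E_140
def eT_138_141 (j : ℕ) : ℕ := bif Nat.blt j 139 then E_138 else (eT_139_141 j)
def eT_141_143 (j : ℕ) : ℕ := bif Nat.blt j 142 then E_141 else E_142
def eT_143_145 (j : ℕ) : ℕ := bif Nat.blt j 144 then E_143 else E_144
def eT_141_145 (j : ℕ) : ℕ := bif Nat.blt j 143 then (eT_141_143 j) else (eT_143_145 j)
def eT_138_145 (j : ℕ) : ℕ := bif Nat.blt j 141 then (eT_138_141 j) else (eT_141_145 j)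
def eT_132_145 (j : ℕ) : ℕ := bif Nat.blt j 138 then (eT_132_138 j) else (eT_138_145 j)
def eT_146_148 (j : ℕ) : ℕ := bif Nat.blt j 147 then E_146 else E_147
def eT_145_148 (j : ℕ) : ℕ := bif Nat.blt j 146 then E_145 else (eT_146_148 j)
def eT_148_150 (j : ℕ) : ℕ := bif Nat.blt j 149 then E_148 else E_149
def eT_150_152 (j : ℕ) : ℕ := bif Nat.blt j 151 then E_150 else E_151
def eT_148_152 (j : ℕ) : ℕ := bif Nat.blt j 150 then (eT_148_150 j) else (eT_150_152 j)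
def eT_145_152 (j : ℕ) : ℕ := bif Nat.blt j 148 then (eT_145_148 j) else (eT_148_152 j)
def eT_153_155 (j : ℕ) : ℕ := bif Nat.blt j 154 then E_153 else E_154
def eT_152_155 (j : ℕ) : ℕ := bif Nat.blt j 153 then E_152 else (eT_153_155 j)
def eT_155_157 (j : ℕ) : ℕ := bif Nat.blt j 156 then E_155 else E_156
def eT_157_159 (j : ℕ) : ℕ := bif Nat.blt j 158 then E_157 else E_158
def eT_155_159 (j : ℕ) : ℕ := bif Nat.blt j 157 then (eT_155_157 j) else (eT_157_159 j)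
def eT_152_159 (j : ℕ) : ℕ := bif Nat.blt j 155 then (eT_152_155 j) else (eT_155_159 j)
def eT_145_159 (j : ℕ) : ℕ := bif Nat.blt j 152 then (eT_145_152 j) else (eT_152_159 j)
def eT_132_159 (j : ℕ) : ℕ := bif Nat.blt j 145 then (eT_132_145 j) else (eT_145_159 j)
def eT_106_159 (j : ℕ) : ℕ := bif Nat.blt j 132 then (eT_106_132 j) else (eT_132_159 j)
def eT_160_162 (j : ℕ) : ℕ := bif Nat.blt j 161 then E_160 else E_161
def eT_159_162 (j : ℕ) : ℕ := bif Nat.blt j 160 then E_159 else (eT_160_162 j)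
def eT_163_165 (j : ℕ) : ℕ := bif Nat.blt j 164 then E_163 else E_164
def eT_162_165 (j : ℕ) : ℕ := bif Nat.blt j 163 then E_162 else (eT_163_165 j)
def eT_159_165 (j : ℕ) : ℕ := bif Nat.blt j 162 then (eT_159_162 j) else (eT_162_165 j)
def eT_166_168 (j : ℕ) : ℕ := bif Nat.blt j 167 then E_166 else E_167
def eT_165_168 (j : ℕ) : ℕ := bif Nat.blt j 166 then E_165 else (eT_166_168 j)
def eT_168_170 (j : ℕ) : ℕ := bif Nat.blt j 169 then E_168 else E_169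
def eT_170_172 (j : ℕ) : ℕ := bif Nat.blt j 171 then E_170 else E_171
def eT_168_172 (j : ℕ) : ℕ := bif Nat.blt j 170 then (eT_168_170 j) else (eT_170_172 j)
def eT_165_172 (j : ℕ) : ℕ := bif Nat.blt j 168 then (eT_165_168 j) else (eT_168_172 j)
def eT_159_172 (j : ℕ) : ℕ := bif Nat.blt j 165 then (eT_159_165 j) else (eT_165_172 j)
def eT_173_175 (j : ℕ) : ℕ := bif Nat.blt j 174 then E_173 else E_174
def eT_172_175 (j : ℕ) : ℕ := bif Nat.blt j 173 then E_172 else (eT_173_175 j)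
def eT_176_178 (j : ℕ) : ℕ := bif Nat.blt j 177 then E_176 else E_177
def eT_175_178 (j : ℕ) : ℕ := bif Nat.blt j 176 then E_175 else (eT_176_178 j)
def eT_172_178 (j : ℕ) : ℕ := bif Nat.blt j 175 then (eT_172_175 j) else (eT_175_178 j)
def eT_179_181 (j : ℕ) : ℕ := bif Nat.blt j 180 then E_179 else E_180
def eT_178_181 (j : ℕ) : ℕ := bif Nat.blt j 179 then E_178 else (eT_179_181 j)
def eT_181_183 (j : ℕ) : ℕ := bif Nat.blt j 182 then E_181 else E_182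
def eT_183_185 (j : ℕ) : ℕ := bif Nat.blt j 184 then E_183 else E_184
def eT_181_185 (j : ℕ) : ℕ := bif Nat.blt j 183 then (eT_181_183 j) else (eT_183_185 j)
def eT_178_185 (j : ℕ) : ℕ := bif Nat.blt j 181 then (eT_178_181 j) else (eT_181_185 j)
def eT_172_185 (j : ℕ) : ℕ := bif Nat.blt j 178 then (eT_172_178 j) else (eT_178_185 j)
def eT_159_185 (j : ℕ) : ℕ := bif Nat.blt j 172 then (eT_159_172 j) else (eT_172_185 j)
def eT_186_188 (j : ℕ) : ℕ := bif Nat.blt j 187 then E_186 else E_187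
def eT_185_188 (j : ℕ) : ℕ := bif Nat.blt j 186 then E_185 else (eT_186_188 j)
def eT_189_191 (j : ℕ) : ℕ := bif Nat.blt j 190 then E_189 else E_190
def eT_188_191 (j : ℕ) : ℕ := bif Nat.blt j 189 then E_188 else (eT_189_191 j)
def eT_185_191 (j : ℕ) : ℕ := bif Nat.blt j 188 then (eT_185_188 j) else (eT_188_191 j)
def eT_192_194 (j : ℕ) : ℕ := bif Nat.blt j 193 then E_192 else E_193
def eT_191_194 (j : ℕ) : ℕ := bif Nat.blt j 192 then E_191 else (eT_192_194 j)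
def eT_194_196 (j : ℕ) : ℕ := bif Nat.blt j 195 then E_194 else E_195
def eT_196_198 (j : ℕ) : ℕ := bif Nat.blt j 197 then E_196 else E_197
def eT_194_198 (j : ℕ) : ℕ := bif Nat.blt j 196 then (eT_194_196 j) else (eT_196_198 j)
def eT_191_198 (j : ℕ) : ℕ := bif Nat.blt j 194 then (eT_191_194 j) else (eT_194_198 j)
def eT_185_198 (j : ℕ) : ℕ := bif Nat.blt j 191 then (eT_185_191 j) else (eT_191_198 j)
def eT_199_201 (j : ℕ) : ℕ := bif Nat.blt j 200 then E_199 else E_200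
def eT_198_201 (j : ℕ) : ℕ := bif Nat.blt j 199 then E_198 else (eT_199_201 j)
def eT_201_203 (j : ℕ) : ℕ := bif Nat.blt j 202 then E_201 else E_202
def eT_203_205 (j : ℕ) : ℕ := bif Nat.blt j 204 then E_203 else E_204
def eT_201_205 (j : ℕ) : ℕ := bif Nat.blt j 203 then (eT_201_203 j) else (eT_203_205 j)
def eT_198_205 (j : ℕ) : ℕ := bif Nat.blt j 201 then (eT_198_201 j) else (eT_201_205 j)
def eT_206_208 (j : ℕ) : ℕ := bif Nat.blt j 207 then E_206 else E_207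
def eT_205_208 (j : ℕ) : ℕ := bif Nat.blt j 206 then E_205 else (eT_206_208 j)
def eT_208_210 (j : ℕ) : ℕ := bif Nat.blt j 209 then E_208 else E_209
def eT_210_212 (j : ℕ) : ℕ := bif Nat.blt j 211 then E_210 else E_211
def eT_208_212 (j : ℕ) : ℕ := bif Nat.blt j 210 then (eT_208_210 j) else (eT_210_212 j)
def eT_205_212 (j : ℕ) : ℕ := bif Nat.blt j 208 then (eT_205_208 j) else (eT_208_212 j)
def eT_198_212 (j : ℕ) : ℕ := bif Nat.blt j 205 then (eT_198_205 j) else (eT_205_212 j)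
def eT_185_212 (j : ℕ) : ℕ := bif Nat.blt j 198 then (eT_185_198 j) else (eT_198_212 j)
def eT_159_212 (j : ℕ) : ℕ := bif Nat.blt j 185 then (eT_159_185 j) else (eT_185_212 j)
def eT_106_212 (j : ℕ) : ℕ := bif Nat.blt j 159 then (eT_106_159 j) else (eT_159_212 j)
def eT_0_212 (j : ℕ) : ℕ := bif Nat.blt j 106 then (eT_0_106 j) else (eT_106_212 j)
def eT_213_215 (j : ℕ) : ℕ := bif Nat.blt j 214 then E_213 else E_214
def eT_212_215 (j : ℕ) : ℕ := bif Nat.blt j 213 then E_212 else (eT_213_215 j)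
def eT_216_218 (j : ℕ) : ℕ := bif Nat.blt j 217 then E_216 else E_217
def eT_215_218 (j : ℕ) : ℕ := bif Nat.blt j 216 then E_215 else (eT_216_218 j)
def eT_212_218 (j : ℕ) : ℕ := bif Nat.blt j 215 then (eT_212_215 j) else (eT_215_218 j)
def eT_219_221 (j : ℕ) : ℕ := bif Nat.blt j 220 then E_219 else E_220
def eT_218_221 (j : ℕ) : ℕ := bif Nat.blt j 219 then E_218 else (eT_219_221 j)
def eT_221_223 (j : ℕ) : ℕ := bif Nat.blt j 222 then E_221 else E_222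
def eT_223_225 (j : ℕ) : ℕ := bif Nat.blt j 224 then E_223 else E_224
def eT_221_225 (j : ℕ) : ℕ := bif Nat.blt j 223 then (eT_221_223 j) else (eT_223_225 j)
def eT_218_225 (j : ℕ) : ℕ := bif Nat.blt j 221 then (eT_218_221 j) else (eT_221_225 j)
def eT_212_225 (j : ℕ) : ℕ := bif Nat.blt j 218 then (eT_212_218 j) else (eT_218_225 j)
def eT_226_228 (j : ℕ) : ℕ := bif Nat.blt j 227 then E_226 else E_227
def eT_225_228 (j : ℕ) : ℕ := bif Nat.blt j 226 then E_225 else (eT_226_228 j)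
def eT_229_231 (j : ℕ) : ℕ := bif Nat.blt j 230 then E_229 else E_230
def eT_228_231 (j : ℕ) : ℕ := bif Nat.blt j 229 then E_228 else (eT_229_231 j)
def eT_225_231 (j : ℕ) : ℕ := bif Nat.blt j 228 then (eT_225_228 j) else (eT_228_231 j)
def eT_232_234 (j : ℕ) : ℕ := bif Nat.blt j 233 then E_232 else E_233
def eT_231_234 (j : ℕ) : ℕ := bif Nat.blt j 232 then E_231 else (eT_232_234 j)
def eT_234_236 (j : ℕ) : ℕ := bif Nat.blt j 235 then E_234 else E_235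
def eT_236_238 (j : ℕ) : ℕ := bif Nat.blt j 237 then E_236 else E_237
def eT_234_238 (j : ℕ) : ℕ := bif Nat.blt j 236 then (eT_234_236 j) else (eT_236_238 j)
def eT_231_238 (j : ℕ) : ℕ := bif Nat.blt j 234 then (eT_231_234 j) else (eT_234_238 j)
def eT_225_238 (j : ℕ) : ℕ := bif Nat.blt j 231 then (eT_225_231 j) else (eT_231_238 j)
def eT_212_238 (j : ℕ) : ℕ := bif Nat.blt j 225 then (eT_212_225 j) else (eT_225_238 j)
def eT_239_241 (j : ℕ) : ℕ := bif Nat.blt j 240 then E_239 else E_240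
def eT_238_241 (j : ℕ) : ℕ := bif Nat.blt j 239 then E_238 else (eT_239_241 j)
def eT_242_244 (j : ℕ) : ℕ := bif Nat.blt j 243 then E_242 else E_243
def eT_241_244 (j : ℕ) : ℕ := bif Nat.blt j 242 then E_241 else (eT_242_244 j)
def eT_238_244 (j : ℕ) : ℕ := bif Nat.blt j 241 then (eT_238_241 j) else (eT_241_244 j)
def eT_245_247 (j : ℕ) : ℕ := bif Nat.blt j 246 then E_245 else E_246
def eT_244_247 (j : ℕ) : ℕ := bif Nat.blt j 245 then E_244 else (eT_245_247 j)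
def eT_247_249 (j : ℕ) : ℕ := bif Nat.blt j 248 then E_247 else E_248
def eT_249_251 (j : ℕ) : ℕ := bif Nat.blt j 250 then E_249 else E_250
def eT_247_251 (j : ℕ) : ℕ := bif Nat.blt j 249 then (eT_247_249 j) else (eT_249_251 j)
def eT_244_251 (j : ℕ) : ℕ := bif Nat.blt j 247 then (eT_244_247 j) else (eT_247_251 j)
def eT_238_251 (j : ℕ) : ℕ := bif Nat.blt j 244 then (eT_238_244 j) else (eT_244_251 j)
def eT_252_254 (j : ℕ) : ℕ := bif Nat.blt j 253 then E_252 else E_253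
def eT_251_254 (j : ℕ) : ℕ := bif Nat.blt j 252 then E_251 else (eT_252_254 j)
def eT_254_256 (j : ℕ) : ℕ := bif Nat.blt j 255 then E_254 else E_255
def eT_256_258 (j : ℕ) : ℕ := bif Nat.blt j 257 then E_256 else E_257
def eT_254_258 (j : ℕ) : ℕ := bif Nat.blt j 256 then (eT_254_256 j) else (eT_256_258 j)
def eT_251_258 (j : ℕ) : ℕ := bif Nat.blt j 254 then (eT_251_254 j) else (eT_254_258 j)
def eT_259_261 (j : ℕ) : ℕ := bif Nat.blt j 260 then E_259 else E_260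
def eT_258_261 (j : ℕ) : ℕ := bif Nat.blt j 259 then E_258 else (eT_259_261 j)
def eT_261_263 (j : ℕ) : ℕ := bif Nat.blt j 262 then E_261 else E_262
def eT_263_265 (j : ℕ) : ℕ := bif Nat.blt j 264 then E_263 else E_264
def eT_261_265 (j : ℕ) : ℕ := bif Nat.blt j 263 then (eT_261_263 j) else (eT_263_265 j)
def eT_258_265 (j : ℕ) : ℕ := bif Nat.blt j 261 then (eT_258_261 j) else (eT_261_265 j)
def eT_251_265 (j : ℕ) : ℕ := bif Nat.blt j 258 then (eT_251_258 j) else (eT_258_265 j)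
def eT_238_265 (j : ℕ) : ℕ := bif Nat.blt j 251 then (eT_238_251 j) else (eT_251_265 j)
def eT_212_265 (j : ℕ) : ℕ := bif Nat.blt j 238 then (eT_212_238 j) else (eT_238_265 j)
def eT_266_268 (j : ℕ) : ℕ := bif Nat.blt j 267 then E_266 else E_267
def eT_265_268 (j : ℕ) : ℕ := bif Nat.blt j 266 then E_265 else (eT_266_268 j)
def eT_269_271 (j : ℕ) : ℕ := bif Nat.blt j 270 then E_269 else E_270
def eT_268_271 (j : ℕ) : ℕ := bif Nat.blt j 269 then E_268 else (eT_269_271 j)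
def eT_265_271 (j : ℕ) : ℕ := bif Nat.blt j 268 then (eT_265_268 j) else (eT_268_271 j)
def eT_272_274 (j : ℕ) : ℕ := bif Nat.blt j 273 then E_272 else E_273
def eT_271_274 (j : ℕ) : ℕ := bif Nat.blt j 272 then E_271 else (eT_272_274 j)
def eT_274_276 (j : ℕ) : ℕ := bif Nat.blt j 275 then E_274 else E_275
def eT_276_278 (j : ℕ) : ℕ := bif Nat.blt j 277 then E_276 else E_277
def eT_274_278 (j : ℕ) : ℕ := bif Nat.blt j 276 then (eT_274_276 j) else (eT_276_278 j)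
def eT_271_278 (j : ℕ) : ℕ := bif Nat.blt j 274 then (eT_271_274 j) else (eT_274_278 j)
def eT_265_278 (j : ℕ) : ℕ := bif Nat.blt j 271 then (eT_265_271 j) else (eT_271_278 j)
def eT_279_281 (j : ℕ) : ℕ := bif Nat.blt j 280 then E_279 else E_280
def eT_278_281 (j : ℕ) : ℕ := bif Nat.blt j 279 then E_278 else (eT_279_281 j)
def eT_282_284 (j : ℕ) : ℕ := bif Nat.blt j 283 then E_282 else E_283
def eT_281_284 (j : ℕ) : ℕ := bif Nat.blt j 282 then E_281 else (eT_282_284 j)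
def eT_278_284 (j : ℕ) : ℕ := bif Nat.blt j 281 then (eT_278_281 j) else (eT_281_284 j)
def eT_285_287 (j : ℕ) : ℕ := bif Nat.blt j 286 then E_285 else E_286
def eT_284_287 (j : ℕ) : ℕ := bif Nat.blt j 285 then E_284 else (eT_285_287 j)
def eT_287_289 (j : ℕ) : ℕ := bif Nat.blt j 288 then E_287 else E_288
def eT_289_291 (j : ℕ) : ℕ := bif Nat.blt j 290 then E_289 else E_290
def eT_287_291 (j : ℕ) : ℕ := bif Nat.blt j 289 then (eT_287_289 j) else (eT_289_291 j)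
def eT_284_291 (j : ℕ) : ℕ := bif Nat.blt j 287 then (eT_284_287 j) else (eT_287_291 j)
def eT_278_291 (j : ℕ) : ℕ := bif Nat.blt j 284 then (eT_278_284 j) else (eT_284_291 j)
def eT_265_291 (j : ℕ) : ℕ := bif Nat.blt j 278 then (eT_265_278 j) else (eT_278_291 j)
def eT_292_294 (j : ℕ) : ℕ := bif Nat.blt j 293 then E_292 else E_293
def eT_291_294 (j : ℕ) : ℕ := bif Nat.blt j 292 then E_291 else (eT_292_294 j)
def eT_295_297 (j : ℕ) : ℕ := bif Nat.blt j 296 then E_295 else E_296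
def eT_294_297 (j : ℕ) : ℕ := bif Nat.blt j 295 then E_294 else (eT_295_297 j)
def eT_291_297 (j : ℕ) : ℕ := bif Nat.blt j 294 then (eT_291_294 j) else (eT_294_297 j)
def eT_298_300 (j : ℕ) : ℕ := bif Nat.blt j 299 then E_298 else E_299
def eT_297_300 (j : ℕ) : ℕ := bif Nat.blt j 298 then E_297 else (eT_298_300 j)
def eT_300_302 (j : ℕ) : ℕ := bif Nat.blt j 301 then E_300 else E_301
def eT_302_304 (j : ℕ) : ℕ := bif Nat.blt j 303 then E_302 else E_303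
def eT_300_304 (j : ℕ) : ℕ := bif Nat.blt j 302 then (eT_300_302 j) else (eT_302_304 j)
def eT_297_304 (j : ℕ) : ℕ := bif Nat.blt j 300 then (eT_297_300 j) else (eT_300_304 j)
def eT_291_304 (j : ℕ) : ℕ := bif Nat.blt j 297 then (eT_291_297 j) else (eT_297_304 j)
def eT_305_307 (j : ℕ) : ℕ := bif Nat.blt j 306 then E_305 else E_306
def eT_304_307 (j : ℕ) : ℕ := bif Nat.blt j 305 then E_304 else (eT_305_307 j)
def eT_307_309 (j : ℕ) : ℕ := bif Nat.blt j 308 then E_307 else E_308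
def eT_309_311 (j : ℕ) : ℕ := bif Nat.blt j 310 then E_309 else E_310
def eT_307_311 (j : ℕ) : ℕ := bif Nat.blt j 309 then (eT_307_309 j) else (eT_309_311 j)
def eT_304_311 (j : ℕ) : ℕ := bif Nat.blt j 307 then (eT_304_307 j) else (eT_307_311 j)
def eT_312_314 (j : ℕ) : ℕ := bif Nat.blt j 313 then E_312 else E_313
def eT_311_314 (j : ℕ) : ℕ := bif Nat.blt j 312 then E_311 else (eT_312_314 j)
def eT_314_316 (j : ℕ) : ℕ := bif Nat.blt j 315 then E_314 else E_315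
def eT_316_318 (j : ℕ) : ℕ := bif Nat.blt j 317 then E_316 else E_317
def eT_314_318 (j : ℕ) : ℕ := bif Nat.blt j 316 then (eT_314_316 j) else (eT_316_318 j)
def eT_311_318 (j : ℕ) : ℕ := bif Nat.blt j 314 then (eT_311_314 j) else (eT_314_318 j)
def eT_304_318 (j : ℕ) : ℕ := bif Nat.blt j 311 then (eT_304_311 j) else (eT_311_318 j)
def eT_291_318 (j : ℕ) : ℕ := bif Nat.blt j 304 then (eT_291_304 j) else (eT_304_318 j)
def eT_265_318 (j : ℕ) : ℕ := bif Nat.blt j 291 then (eT_265_291 j) else (eT_291_318 j)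
def eT_212_318 (j : ℕ) : ℕ := bif Nat.blt j 265 then (eT_212_265 j) else (eT_265_318 j)
def eT_319_321 (j : ℕ) : ℕ := bif Nat.blt j 320 then E_319 else E_320
def eT_318_321 (j : ℕ) : ℕ := bif Nat.blt j 319 then E_318 else (eT_319_321 j)
def eT_322_324 (j : ℕ) : ℕ := bif Nat.blt j 323 then E_322 else E_323
def eT_321_324 (j : ℕ) : ℕ := bif Nat.blt j 322 then E_321 else (eT_322_324 j)
def eT_318_324 (j : ℕ) : ℕ := bif Nat.blt j 321 then (eT_318_321 j) else (eT_321_324 j)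
def eT_325_327 (j : ℕ) : ℕ := bif Nat.blt j 326 then E_325 else E_326
def eT_324_327 (j : ℕ) : ℕ := bif Nat.blt j 325 then E_324 else (eT_325_327 j)
def eT_327_329 (j : ℕ) : ℕ := bif Nat.blt j 328 then E_327 else E_328
def eT_329_331 (j : ℕ) : ℕ := bif Nat.blt j 330 then E_329 else E_330
def eT_327_331 (j : ℕ) : ℕ := bif Nat.blt j 329 then (eT_327_329 j) else (eT_329_331 j)
def eT_324_331 (j : ℕ) : ℕ := bif Nat.blt j 327 then (eT_324_327 j) else (eT_327_331 j)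
def eT_318_331 (j : ℕ) : ℕ := bif Nat.blt j 324 then (eT_318_324 j) else (eT_324_331 j)
def eT_332_334 (j : ℕ) : ℕ := bif Nat.blt j 333 then E_332 else E_333
def eT_331_334 (j : ℕ) : ℕ := bif Nat.blt j 332 then E_331 else (eT_332_334 j)
def eT_335_337 (j : ℕ) : ℕ := bif Nat.blt j 336 then E_335 else E_336
def eT_334_337 (j : ℕ) : ℕ := bif Nat.blt j 335 then E_334 else (eT_335_337 j)
def eT_331_337 (j : ℕ) : ℕ := bif Nat.blt j 334 then (eT_331_334 j) else (eT_334_337 j)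
def eT_338_340 (j : ℕ) : ℕ := bif Nat.blt j 339 then E_338 else E_339
def eT_337_340 (j : ℕ) : ℕ := bif Nat.blt j 338 then E_337 else (eT_338_340 j)
def eT_340_342 (j : ℕ) : ℕ := bif Nat.blt j 341 then E_340 else E_341
def eT_342_344 (j : ℕ) : ℕ := bif Nat.blt j 343 then E_342 else E_343
def eT_340_344 (j : ℕ) : ℕ := bif Nat.blt j 342 then (eT_340_342 j) else (eT_342_344 j)
def eT_337_344 (j : ℕ) : ℕ := bif Nat.blt j 340 then (eT_337_340 j) else (eT_340_344 j)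
def eT_331_344 (j : ℕ) : ℕ := bif Nat.blt j 337 then (eT_331_337 j) else (eT_337_344 j)
def eT_318_344 (j : ℕ) : ℕ := bif Nat.blt j 331 then (eT_318_331 j) else (eT_331_344 j)
def eT_345_347 (j : ℕ) : ℕ := bif Nat.blt j 346 then E_345 else E_346
def eT_344_347 (j : ℕ) : ℕ := bif Nat.blt j 345 then E_344 else (eT_345_347 j)
def eT_348_350 (j : ℕ) : ℕ := bif Nat.blt j 349 then E_348 else E_349
def eT_347_350 (j : ℕ) : ℕ := bif Nat.blt j 348 then E_347 else (eT_348_350 j)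
def eT_344_350 (j : ℕ) : ℕ := bif Nat.blt j 347 then (eT_344_347 j) else (eT_347_350 j)
def eT_351_353 (j : ℕ) : ℕ := bif Nat.blt j 352 then E_351 else E_352
def eT_350_353 (j : ℕ) : ℕ := bif Nat.blt j 351 then E_350 else (eT_351_353 j)
def eT_353_355 (j : ℕ) : ℕ := bif Nat.blt j 354 then E_353 else E_354
def eT_355_357 (j : ℕ) : ℕ := bif Nat.blt j 356 then E_355 else E_356
def eT_353_357 (j : ℕ) : ℕ := bif Nat.blt j 355 then (eT_353_355 j) else (eT_355_357 j)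
def eT_350_357 (j : ℕ) : ℕ := bif Nat.blt j 353 then (eT_350_353 j) else (eT_353_357 j)
def eT_344_357 (j : ℕ) : ℕ := bif Nat.blt j 350 then (eT_344_350 j) else (eT_350_357 j)
def eT_358_360 (j : ℕ) : ℕ := bif Nat.blt j 359 then E_358 else E_359
def eT_357_360 (j : ℕ) : ℕ := bif Nat.blt j 358 then E_357 else (eT_358_360 j)
def eT_360_362 (j : ℕ) : ℕ := bif Nat.blt j 361 then E_360 else E_361
def eT_362_364 (j : ℕ) : ℕ := bif Nat.blt j 363 then E_362 else E_363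
def eT_360_364 (j : ℕ) : ℕ := bif Nat.blt j 362 then (eT_360_362 j) else (eT_362_364 j)
def eT_357_364 (j : ℕ) : ℕ := bif Nat.blt j 360 then (eT_357_360 j) else (eT_360_364 j)
def eT_365_367 (j : ℕ) : ℕ := bif Nat.blt j 366 then E_365 else E_366
def eT_364_367 (j : ℕ) : ℕ := bif Nat.blt j 365 then E_364 else (eT_365_367 j)
def eT_367_369 (j : ℕ) : ℕ := bif Nat.blt j 368 then E_367 else E_368
def eT_369_371 (j : ℕ) : ℕ := bif Nat.blt j 370 then E_369 else E_370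
def eT_367_371 (j : ℕ) : ℕ := bif Nat.blt j 369 then (eT_367_369 j) else (eT_369_371 j)
def eT_364_371 (j : ℕ) : ℕ := bif Nat.blt j 367 then (eT_364_367 j) else (eT_367_371 j)
def eT_357_371 (j : ℕ) : ℕ := bif Nat.blt j 364 then (eT_357_364 j) else (eT_364_371 j)
def eT_344_371 (j : ℕ) : ℕ := bif Nat.blt j 357 then (eT_344_357 j) else (eT_357_371 j)
def eT_318_371 (j : ℕ) : ℕ := bif Nat.blt j 344 then (eT_318_344 j) else (eT_344_371 j)
def eT_372_374 (j : ℕ) : ℕ := bif Nat.blt j 373 then E_372 else E_373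
def eT_371_374 (j : ℕ) : ℕ := bif Nat.blt j 372 then E_371 else (eT_372_374 j)
def eT_375_377 (j : ℕ) : ℕ := bif Nat.blt j 376 then E_375 else E_376
def eT_374_377 (j : ℕ) : ℕ := bif Nat.blt j 375 then E_374 else (eT_375_377 j)
def eT_371_377 (j : ℕ) : ℕ := bif Nat.blt j 374 then (eT_371_374 j) else (eT_374_377 j)
def eT_378_380 (j : ℕ) : ℕ := bif Nat.blt j 379 then E_378 else E_379
def eT_377_380 (j : ℕ) : ℕ := bif Nat.blt j 378 then E_377 else (eT_378_380 j)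
def eT_380_382 (j : ℕ) : ℕ := bif Nat.blt j 381 then E_380 else E_381
def eT_382_384 (j : ℕ) : ℕ := bif Nat.blt j 383 then E_382 else E_383
def eT_380_384 (j : ℕ) : ℕ := bif Nat.blt j 382 then (eT_380_382 j) else (eT_382_384 j)
def eT_377_384 (j : ℕ) : ℕ := bif Nat.blt j 380 then (eT_377_380 j) else (eT_380_384 j)
def eT_371_384 (j : ℕ) : ℕ := bif Nat.blt j 377 then (eT_371_377 j) else (eT_377_384 j)
def eT_385_387 (j : ℕ) : ℕ := bif Nat.blt j 386 then E_385 else E_386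
def eT_384_387 (j : ℕ) : ℕ := bif Nat.blt j 385 then E_384 else (eT_385_387 j)
def eT_388_390 (j : ℕ) : ℕ := bif Nat.blt j 389 then E_388 else E_389
def eT_387_390 (j : ℕ) : ℕ := bif Nat.blt j 388 then E_387 else (eT_388_390 j)
def eT_384_390 (j : ℕ) : ℕ := bif Nat.blt j 387 then (eT_384_387 j) else (eT_387_390 j)
def eT_391_393 (j : ℕ) : ℕ := bif Nat.blt j 392 then E_391 else E_392
def eT_390_393 (j : ℕ) : ℕ := bif Nat.blt j 391 then E_390 else (eT_391_393 j)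
def eT_393_395 (j : ℕ) : ℕ := bif Nat.blt j 394 then E_393 else E_394
def eT_395_397 (j : ℕ) : ℕ := bif Nat.blt j 396 then E_395 else E_396
def eT_393_397 (j : ℕ) : ℕ := bif Nat.blt j 395 then (eT_393_395 j) else (eT_395_397 j)
def eT_390_397 (j : ℕ) : ℕ := bif Nat.blt j 393 then (eT_390_393 j) else (eT_393_397 j)
def eT_384_397 (j : ℕ) : ℕ := bif Nat.blt j 390 then (eT_384_390 j) else (eT_390_397 j)
def eT_371_397 (j : ℕ) : ℕ := bif Nat.blt j 384 then (eT_371_384 j) else (eT_384_397 j)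
def eT_398_400 (j : ℕ) : ℕ := bif Nat.blt j 399 then E_398 else E_399
def eT_397_400 (j : ℕ) : ℕ := bif Nat.blt j 398 then E_397 else (eT_398_400 j)
def eT_401_403 (j : ℕ) : ℕ := bif Nat.blt j 402 then E_401 else E_402
def eT_400_403 (j : ℕ) : ℕ := bif Nat.blt j 401 then E_400 else (eT_401_403 j)
def eT_397_403 (j : ℕ) : ℕ := bif Nat.blt j 400 then (eT_397_400 j) else (eT_400_403 j)
def eT_404_406 (j : ℕ) : ℕ := bif Nat.blt j 405 then E_404 else E_405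
def eT_403_406 (j : ℕ) : ℕ := bif Nat.blt j 404 then E_403 else (eT_404_406 j)
def eT_406_408 (j : ℕ) : ℕ := bif Nat.blt j 407 then E_406 else E_407
def eT_408_410 (j : ℕ) : ℕ := bif Nat.blt j 409 then E_408 else E_409
def eT_406_410 (j : ℕ) : ℕ := bif Nat.blt j 408 then (eT_406_408 j) else (eT_408_410 j)
def eT_403_410 (j : ℕ) : ℕ := bif Nat.blt j 406 then (eT_403_406 j) else (eT_406_410 j)
def eT_397_410 (j : ℕ) : ℕ := bif Nat.blt j 403 then (eT_397_403 j) else (eT_403_410 j)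
def eT_411_413 (j : ℕ) : ℕ := bif Nat.blt j 412 then E_411 else E_412
def eT_410_413 (j : ℕ) : ℕ := bif Nat.blt j 411 then E_410 else (eT_411_413 j)
def eT_413_415 (j : ℕ) : ℕ := bif Nat.blt j 414 then E_413 else E_414
def eT_415_417 (j : ℕ) : ℕ := bif Nat.blt j 416 then E_415 else E_416
def eT_413_417 (j : ℕ) : ℕ := bif Nat.blt j 415 then (eT_413_415 j) else (eT_415_417 j)
def eT_410_417 (j : ℕ) : ℕ := bif Nat.blt j 413 then (eT_410_413 j) else (eT_413_417 j)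
def eT_418_420 (j : ℕ) : ℕ := bif Nat.blt j 419 then E_418 else E_419
def eT_417_420 (j : ℕ) : ℕ := bif Nat.blt j 418 then E_417 else (eT_418_420 j)
def eT_420_422 (j : ℕ) : ℕ := bif Nat.blt j 421 then E_420 else E_421
def eT_422_424 (j : ℕ) : ℕ := bif Nat.blt j 423 then E_422 else E_423
def eT_420_424 (j : ℕ) : ℕ := bif Nat.blt j 422 then (eT_420_422 j) else (eT_422_424 j)
def eT_417_424 (j : ℕ) : ℕ := bif Nat.blt j 420 then (eT_417_420 j) else (eT_420_424 j)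
def eT_410_424 (j : ℕ) : ℕ := bif Nat.blt j 417 then (eT_410_417 j) else (eT_417_424 j)
def eT_397_424 (j : ℕ) : ℕ := bif Nat.blt j 410 then (eT_397_410 j) else (eT_410_424 j)
def eT_371_424 (j : ℕ) : ℕ := bif Nat.blt j 397 then (eT_371_397 j) else (eT_397_424 j)
def eT_318_424 (j : ℕ) : ℕ := bif Nat.blt j 371 then (eT_318_371 j) else (eT_371_424 j)
def eT_212_424 (j : ℕ) : ℕ := bif Nat.blt j 318 then (eT_212_318 j) else (eT_318_424 j)
def eT_0_424 (j : ℕ) : ℕ := bif Nat.blt j 212 then (eT_0_212 j) else (eT_212_424 j)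
def eT (j : ℕ) : ℕ := (eT_0_424 j)
noncomputable def chunkF (h : ℕ) : ℕ := Nat.rec (motive := fun _ => ℕ) (eT 0) (fun n _ => eT (Nat.succ n)) h
noncomputable def Eo (r : ℕ) : ℕ := Nat.land (Nat.shiftRight (chunkF (Nat.shiftRight r 8)) (Nat.mul (Nat.land r 255) 54)) 18014398509481983
def invT : ℕ := 0xffef7cefae78df6d74cf2c70beeb6caeaa689e69648e28607de75c6da6585d65544d24503ce34c2ca2481c61440c2040
def inv (y : ℕ) : ℕ := invOf invT y
def Wt_0_2 (j : ℕ) : List ℕ := bif Nat.blt j 1 then [nat_lit 2, nat_lit 3, nat_lit 2, nat_lit 3] else [nat_lit 2, nat_lit 1, nat_lit 2, nat_lit 1, nat_lit 2, nat_lit 1]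
def Wt_2_4 (j : ℕ) : List ℕ := bif Nat.blt j 3 then [nat_lit 0, nat_lit 2, nat_lit 4, nat_lit 1, nat_lit 4, nat_lit 1, nat_lit 2, nat_lit 1, nat_lit 0, nat_lit 4, nat_lit 1, nat_lit 4, nat_lit 2] else [nat_lit 4, nat_lit 2, nat_lit 0, nat_lit 1, nat_lit 4, nat_lit 2, nat_lit 0, nat_lit 1, nat_lit 4, nat_lit 2, nat_lit 0, nat_lit 1]
def Wt_0_4 (j : ℕ) : List ℕ := bif Nat.blt j 2 then (Wt_0_2 j) else (Wt_2_4 j)
def Wt_4_6 (j : ℕ) : List ℕ := bif Nat.blt j 5 then [nat_lit 3, nat_lit 4, nat_lit 3, nat_lit 0, nat_lit 4, nat_lit 1, nat_lit 0, nat_lit 3, nat_lit 4, nat_lit 2, nat_lit 3, nat_lit 4] else [nat_lit 3, nat_lit 1, nat_lit 4, nat_lit 2, nat_lit 4, nat_lit 3, nat_lit 2, nat_lit 1, nat_lit 4, nat_lit 2, nat_lit 4, nat_lit 2]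
def Wt_6_8 (j : ℕ) : List ℕ := bif Nat.blt j 7 then [nat_lit 4, nat_lit 3, nat_lit 4, nat_lit 3, nat_lit 4, nat_lit 3, nat_lit 4, nat_lit 3, nat_lit 4, nat_lit 3] else [nat_lit 1, nat_lit 4, nat_lit 0, nat_lit 3, nat_lit 4, nat_lit 3, nat_lit 4, nat_lit 3, nat_lit 2, nat_lit 4, nat_lit 3, nat_lit 0]
def Wt_4_8 (j : ℕ) : List ℕ := bif Nat.blt j 6 then (Wt_4_6 j) else (Wt_6_8 j)
def Wt_0_8 (j : ℕ) : List ℕ := bif Nat.blt j 4 then (Wt_0_4 j) else (Wt_4_8 j)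
def Wt_8_10 (j : ℕ) : List ℕ := bif Nat.blt j 9 then [nat_lit 2, nat_lit 3, nat_lit 4, nat_lit 3, nat_lit 4, nat_lit 3, nat_lit 0, nat_lit 4, nat_lit 1, nat_lit 0, nat_lit 3, nat_lit 4] else [nat_lit 3, nat_lit 2, nat_lit 3, nat_lit 2]
def Wt_10_12 (j : ℕ) : List ℕ := bif Nat.blt j 11 then [nat_lit 3, nat_lit 0, nat_lit 4, nat_lit 1, nat_lit 0, nat_lit 3, nat_lit 4, nat_lit 2, nat_lit 3, nat_lit 4, nat_lit 3, nat_lit 4] else [nat_lit 2, nat_lit 1, nat_lit 4, nat_lit 1, nat_lit 4, nat_lit 2, nat_lit 0, nat_lit 2, nat_lit 4, nat_lit 1, nat_lit 4, nat_lit 0, nat_lit 1]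
def Wt_8_12 (j : ℕ) : List ℕ := bif Nat.blt j 10 then (Wt_8_10 j) else (Wt_10_12 j)
def Wt_12_14 (j : ℕ) : List ℕ := bif Nat.blt j 13 then [nat_lit 1, nat_lit 2, nat_lit 1, nat_lit 2, nat_lit 1, nat_lit 2] else [nat_lit 0, nat_lit 3, nat_lit 4, nat_lit 2, nat_lit 3, nat_lit 4, nat_lit 3, nat_lit 4, nat_lit 3, nat_lit 0, nat_lit 4, nat_lit 1]
def Wt_14_16 (j : ℕ) : List ℕ := bif Nat.blt j 15 then [nat_lit 2, nat_lit 4, nat_lit 2, nat_lit 3, nat_lit 1, nat_lit 4, nat_lit 2, nat_lit 4, nat_lit 3, nat_lit 2, nat_lit 1, nat_lit 4] else [nat_lit 0, nat_lit 3, nat_lit 4, nat_lit 3, nat_lit 4, nat_lit 3, nat_lit 2, nat_lit 4, nat_lit 3, nat_lit 0, nat_lit 1, nat_lit 4]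
def Wt_12_16 (j : ℕ) : List ℕ := bif Nat.blt j 14 then (Wt_12_14 j) else (Wt_14_16 j)
def Wt_8_16 (j : ℕ) : List ℕ := bif Nat.blt j 12 then (Wt_8_12 j) else (Wt_12_16 j)
def Wt_0_16 (j : ℕ) : List ℕ := bif Nat.blt j 8 then (Wt_0_8 j) else (Wt_8_16 j)
def Wt_16_18 (j : ℕ) : List ℕ := bif Nat.blt j 17 then [nat_lit 1, nat_lit 0, nat_lit 3, nat_lit 4, nat_lit 2, nat_lit 3, nat_lit 4, nat_lit 3, nat_lit 4, nat_lit 3, nat_lit 0, nat_lit 4] else [nat_lit 3, nat_lit 0, nat_lit 1, nat_lit 4, nat_lit 0, nat_lit 3, nat_lit 4, nat_lit 3, nat_lit 4, nat_lit 3, nat_lit 2, nat_lit 4]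
def Wt_18_20 (j : ℕ) : List ℕ := bif Nat.blt j 19 then [nat_lit 1, nat_lit 0, nat_lit 1, nat_lit 0, nat_lit 1, nat_lit 0, nat_lit 1, nat_lit 0, nat_lit 1, nat_lit 0] else [nat_lit 1, nat_lit 4, nat_lit 2, nat_lit 0, nat_lit 2, nat_lit 4, nat_lit 1, nat_lit 4, nat_lit 0, nat_lit 1, nat_lit 2, nat_lit 1, nat_lit 4]
def Wt_16_20 (j : ℕ) : List ℕ := bif Nat.blt j 18 then (Wt_16_18 j) else (Wt_18_20 j)
def Wt_20_22 (j : ℕ) : List ℕ := bif Nat.blt j 21 then [nat_lit 63, nat_lit 1, nat_lit 2, nat_lit 1, nat_lit 4, nat_lit 1, nat_lit 4, nat_lit 2, nat_lit 0, nat_lit 2, nat_lit 4, nat_lit 1, nat_lit 4, nat_lit 0] else [nat_lit 63, nat_lit 0, nat_lit 63, nat_lit 0]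
def Wt_22_24 (j : ℕ) : List ℕ := bif Nat.blt j 23 then [nat_lit 0, nat_lit 0, nat_lit 63] else [nat_lit 2, nat_lit 3, nat_lit 0, nat_lit 3, nat_lit 2, nat_lit 0, nat_lit 1, nat_lit 3, nat_lit 1, nat_lit 0]
def Wt_20_24 (j : ℕ) : List ℕ := bif Nat.blt j 22 then (Wt_20_22 j) else (Wt_22_24 j)
def Wt_16_24 (j : ℕ) : List ℕ := bif Nat.blt j 20 then (Wt_16_20 j) else (Wt_20_24 j)
def Wt_24_26 (j : ℕ) : List ℕ := bif Nat.blt j 25 then [nat_lit 2, nat_lit 0, nat_lit 2, nat_lit 0, nat_lit 2, nat_lit 0, nat_lit 2, nat_lit 0, nat_lit 2, nat_lit 0] else [nat_lit 3, nat_lit 1, nat_lit 0, nat_lit 2, nat_lit 3, nat_lit 0, nat_lit 3, nat_lit 2, nat_lit 0, nat_lit 1]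
def Wt_26_28 (j : ℕ) : List ℕ := bif Nat.blt j 27 then [nat_lit 2, nat_lit 0, nat_lit 1, nat_lit 3, nat_lit 1, nat_lit 0, nat_lit 2, nat_lit 3, nat_lit 0, nat_lit 3] else [nat_lit 3, nat_lit 4, nat_lit 3, nat_lit 4, nat_lit 3, nat_lit 4, nat_lit 3, nat_lit 4, nat_lit 3, nat_lit 4]
def Wt_24_28 (j : ℕ) : List ℕ := bif Nat.blt j 26 then (Wt_24_26 j) else (Wt_26_28 j)
def Wt_28_30 (j : ℕ) : List ℕ := bif Nat.blt j 29 then [nat_lit 2, nat_lit 0, nat_lit 1, nat_lit 0, nat_lit 2, nat_lit 0, nat_lit 1, nat_lit 0, nat_lit 1, nat_lit 2, nat_lit 0] else [nat_lit 63, nat_lit 0, nat_lit 2, nat_lit 0, nat_lit 1, nat_lit 0, nat_lit 1, nat_lit 2, nat_lit 0, nat_lit 2, nat_lit 0, nat_lit 1]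
def Wt_31_33 (j : ℕ) : List ℕ := bif Nat.blt j 32 then [nat_lit 63, nat_lit 2, nat_lit 0, nat_lit 2, nat_lit 0, nat_lit 1, nat_lit 0, nat_lit 2, nat_lit 0, nat_lit 1, nat_lit 0, nat_lit 1] else [nat_lit 2, nat_lit 2, nat_lit 63]
def Wt_30_33 (j : ℕ) : List ℕ := bif Nat.blt j 31 then [nat_lit 1, nat_lit 1, nat_lit 63] else (Wt_31_33 j)
def Wt_28_33 (j : ℕ) : List ℕ := bif Nat.blt j 30 then (Wt_28_30 j) else (Wt_30_33 j)
def Wt_24_33 (j : ℕ) : List ℕ := bif Nat.blt j 28 then (Wt_24_28 j) else (Wt_28_33 j)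
def Wt_16_33 (j : ℕ) : List ℕ := bif Nat.blt j 24 then (Wt_16_24 j) else (Wt_24_33 j)
def Wt_0_33 (j : ℕ) : List ℕ := bif Nat.blt j 16 then (Wt_0_16 j) else (Wt_16_33 j)
def Wt_33_35 (j : ℕ) : List ℕ := bif Nat.blt j 34 then [nat_lit 63, nat_lit 2, nat_lit 1, nat_lit 2, nat_lit 1, nat_lit 2, nat_lit 1] else [nat_lit 63, nat_lit 1, nat_lit 2, nat_lit 1, nat_lit 2, nat_lit 1, nat_lit 2]
def Wt_35_37 (j : ℕ) : List ℕ := bif Nat.blt j 36 then [nat_lit 0, nat_lit 2, nat_lit 0, nat_lit 2, nat_lit 1, nat_lit 0, nat_lit 1, nat_lit 0, nat_lit 2, nat_lit 0, nat_lit 1] else [nat_lit 1, nat_lit 0, nat_lit 1, nat_lit 0, nat_lit 2, nat_lit 0, nat_lit 1, nat_lit 0, nat_lit 2, nat_lit 0, nat_lit 2]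
def Wt_33_37 (j : ℕ) : List ℕ := bif Nat.blt j 35 then (Wt_33_35 j) else (Wt_35_37 j)
def Wt_37_39 (j : ℕ) : List ℕ := bif Nat.blt j 38 then [nat_lit 3, nat_lit 2, nat_lit 0, nat_lit 1, nat_lit 3, nat_lit 1, nat_lit 0, nat_lit 2, nat_lit 3, nat_lit 0] else [nat_lit 1, nat_lit 0, nat_lit 2, nat_lit 0, nat_lit 2, nat_lit 1, nat_lit 0, nat_lit 1, nat_lit 0, nat_lit 2, nat_lit 0]
def Wt_39_41 (j : ℕ) : List ℕ := bif Nat.blt j 40 then [nat_lit 63, nat_lit 0, nat_lit 1, nat_lit 0, nat_lit 2, nat_lit 0, nat_lit 1, nat_lit 0, nat_lit 2, nat_lit 0, nat_lit 2, nat_lit 1] else [nat_lit 63, nat_lit 2, nat_lit 63, nat_lit 2]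
def Wt_37_41 (j : ℕ) : List ℕ := bif Nat.blt j 39 then (Wt_37_39 j) else (Wt_39_41 j)
def Wt_33_41 (j : ℕ) : List ℕ := bif Nat.blt j 37 then (Wt_33_37 j) else (Wt_37_41 j)
def Wt_41_43 (j : ℕ) : List ℕ := bif Nat.blt j 42 then [nat_lit 63, nat_lit 1, nat_lit 0, nat_lit 2, nat_lit 0, nat_lit 1, nat_lit 0, nat_lit 2, nat_lit 0, nat_lit 2, nat_lit 1, nat_lit 0] else [nat_lit 2, nat_lit 0, nat_lit 1, nat_lit 4, nat_lit 2, nat_lit 0, nat_lit 1, nat_lit 4, nat_lit 2, nat_lit 0, nat_lit 1, nat_lit 4]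
def Wt_43_45 (j : ℕ) : List ℕ := bif Nat.blt j 44 then [nat_lit 4, nat_lit 2, nat_lit 3, nat_lit 4, nat_lit 3, nat_lit 4, nat_lit 3, nat_lit 0, nat_lit 4, nat_lit 1, nat_lit 0, nat_lit 3] else [nat_lit 2, nat_lit 0, nat_lit 2, nat_lit 0, nat_lit 1, nat_lit 0, nat_lit 2, nat_lit 0, nat_lit 1, nat_lit 0, nat_lit 1]
def Wt_41_45 (j : ℕ) : List ℕ := bif Nat.blt j 43 then (Wt_41_43 j) else (Wt_43_45 j)
def Wt_45_47 (j : ℕ) : List ℕ := bif Nat.blt j 46 then [nat_lit 0, nat_lit 1, nat_lit 0, nat_lit 2, nat_lit 0, nat_lit 2, nat_lit 1, nat_lit 0, nat_lit 1, nat_lit 0, nat_lit 2] else [nat_lit 0, nat_lit 2, nat_lit 3, nat_lit 0, nat_lit 3, nat_lit 2, nat_lit 0, nat_lit 1, nat_lit 3, nat_lit 1]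
def Wt_47_49 (j : ℕ) : List ℕ := bif Nat.blt j 48 then [nat_lit 1, nat_lit 3, nat_lit 1, nat_lit 0, nat_lit 2, nat_lit 3, nat_lit 0, nat_lit 3, nat_lit 2, nat_lit 0] else [nat_lit 0, nat_lit 1, nat_lit 4, nat_lit 0, nat_lit 3, nat_lit 4, nat_lit 3, nat_lit 4, nat_lit 3, nat_lit 2, nat_lit 4, nat_lit 3]
def Wt_45_49 (j : ℕ) : List ℕ := bif Nat.blt j 47 then (Wt_45_47 j) else (Wt_47_49 j)
def Wt_41_49 (j : ℕ) : List ℕ := bif Nat.blt j 45 then (Wt_41_45 j) else (Wt_45_49 j)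
def Wt_33_49 (j : ℕ) : List ℕ := bif Nat.blt j 41 then (Wt_33_41 j) else (Wt_41_49 j)
def Wt_49_51 (j : ℕ) : List ℕ := bif Nat.blt j 50 then [nat_lit 0, nat_lit 1, nat_lit 0, nat_lit 1, nat_lit 0, nat_lit 1, nat_lit 0, nat_lit 1, nat_lit 0, nat_lit 1] else [nat_lit 0, nat_lit 3, nat_lit 0, nat_lit 3, nat_lit 0, nat_lit 3, nat_lit 0, nat_lit 3, nat_lit 0, nat_lit 3, nat_lit 0, nat_lit 3]
def Wt_51_53 (j : ℕ) : List ℕ := bif Nat.blt j 52 then [nat_lit 63, nat_lit 4, nat_lit 1, nat_lit 0, nat_lit 3, nat_lit 4, nat_lit 2, nat_lit 3, nat_lit 4, nat_lit 3, nat_lit 4, nat_lit 3, nat_lit 0] else [nat_lit 63, nat_lit 3, nat_lit 63, nat_lit 3]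
def Wt_49_53 (j : ℕ) : List ℕ := bif Nat.blt j 51 then (Wt_49_51 j) else (Wt_51_53 j)
def Wt_53_55 (j : ℕ) : List ℕ := bif Nat.blt j 54 then [nat_lit 63, nat_lit 4, nat_lit 63, nat_lit 4] else [nat_lit 4, nat_lit 4, nat_lit 63]
def Wt_55_57 (j : ℕ) : List ℕ := bif Nat.blt j 56 then [nat_lit 1, nat_lit 0, nat_lit 2, nat_lit 3, nat_lit 0, nat_lit 3, nat_lit 2, nat_lit 0, nat_lit 1, nat_lit 3] else [nat_lit 4, nat_lit 1, nat_lit 0, nat_lit 2, nat_lit 4, nat_lit 1, nat_lit 0, nat_lit 2, nat_lit 4, nat_lit 1, nat_lit 0, nat_lit 2]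
def Wt_53_57 (j : ℕ) : List ℕ := bif Nat.blt j 55 then (Wt_53_55 j) else (Wt_55_57 j)
def Wt_49_57 (j : ℕ) : List ℕ := bif Nat.blt j 53 then (Wt_49_53 j) else (Wt_53_57 j)
def Wt_57_59 (j : ℕ) : List ℕ := bif Nat.blt j 58 then [nat_lit 1, nat_lit 4, nat_lit 2, nat_lit 0, nat_lit 2, nat_lit 4, nat_lit 1, nat_lit 4, nat_lit 1, nat_lit 2, nat_lit 1, nat_lit 0, nat_lit 4] else [nat_lit 2, nat_lit 0, nat_lit 2, nat_lit 4, nat_lit 1, nat_lit 4, nat_lit 1, nat_lit 2, nat_lit 1, nat_lit 0, nat_lit 4, nat_lit 1, nat_lit 4]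
def Wt_59_61 (j : ℕ) : List ℕ := bif Nat.blt j 60 then [nat_lit 1, nat_lit 2, nat_lit 1, nat_lit 4, nat_lit 1, nat_lit 4, nat_lit 2, nat_lit 0, nat_lit 2, nat_lit 4, nat_lit 1, nat_lit 4, nat_lit 0] else [nat_lit 2, nat_lit 1, nat_lit 0, nat_lit 4, nat_lit 1, nat_lit 4, nat_lit 2, nat_lit 0, nat_lit 2, nat_lit 4, nat_lit 1, nat_lit 4, nat_lit 1]
def Wt_57_61 (j : ℕ) : List ℕ := bif Nat.blt j 59 then (Wt_57_59 j) else (Wt_59_61 j)
def Wt_61_63 (j : ℕ) : List ℕ := bif Nat.blt j 62 then [nat_lit 0, nat_lit 2, nat_lit 4, nat_lit 1, nat_lit 0, nat_lit 2, nat_lit 4, nat_lit 1, nat_lit 0, nat_lit 2, nat_lit 4, nat_lit 1] else [nat_lit 63, nat_lit 3, nat_lit 2, nat_lit 0, nat_lit 1, nat_lit 3, nat_lit 1, nat_lit 0, nat_lit 2, nat_lit 3, nat_lit 0]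
def Wt_64_66 (j : ℕ) : List ℕ := bif Nat.blt j 65 then [nat_lit 4, nat_lit 1, nat_lit 3, nat_lit 2, nat_lit 4, nat_lit 2, nat_lit 4, nat_lit 1, nat_lit 2, nat_lit 3, nat_lit 4, nat_lit 2] else [nat_lit 0, nat_lit 2, nat_lit 0, nat_lit 2, nat_lit 0, nat_lit 2, nat_lit 0, nat_lit 2, nat_lit 0, nat_lit 2]
def Wt_63_66 (j : ℕ) : List ℕ := bif Nat.blt j 64 then [nat_lit 1, nat_lit 4, nat_lit 2, nat_lit 4, nat_lit 3, nat_lit 2, nat_lit 1, nat_lit 4, nat_lit 2, nat_lit 4, nat_lit 2, nat_lit 3] else (Wt_64_66 j)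
def Wt_61_66 (j : ℕ) : List ℕ := bif Nat.blt j 63 then (Wt_61_63 j) else (Wt_63_66 j)
def Wt_57_66 (j : ℕ) : List ℕ := bif Nat.blt j 61 then (Wt_57_61 j) else (Wt_61_66 j)
def Wt_49_66 (j : ℕ) : List ℕ := bif Nat.blt j 57 then (Wt_49_57 j) else (Wt_57_66 j)
def Wt_33_66 (j : ℕ) : List ℕ := bif Nat.blt j 49 then (Wt_33_49 j) else (Wt_49_66 j)
def Wt_0_66 (j : ℕ) : List ℕ := bif Nat.blt j 33 then (Wt_0_33 j) else (Wt_33_66 j)
def Wt_66_68 (j : ℕ) : List ℕ := bif Nat.blt j 67 then [nat_lit 3, nat_lit 4, nat_lit 3, nat_lit 4, nat_lit 3, nat_lit 2, nat_lit 4, nat_lit 3, nat_lit 0, nat_lit 1, nat_lit 4, nat_lit 0] else [nat_lit 1, nat_lit 0, nat_lit 4, nat_lit 1, nat_lit 4, nat_lit 2, nat_lit 0, nat_lit 2, nat_lit 4, nat_lit 1, nat_lit 4, nat_lit 1, nat_lit 2]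
def Wt_68_70 (j : ℕ) : List ℕ := bif Nat.blt j 69 then [nat_lit 2, nat_lit 4, nat_lit 1, nat_lit 4, nat_lit 1, nat_lit 2, nat_lit 1, nat_lit 0, nat_lit 4, nat_lit 1, nat_lit 4, nat_lit 2, nat_lit 0] else [nat_lit 3, nat_lit 0, nat_lit 3, nat_lit 2, nat_lit 0, nat_lit 1, nat_lit 3, nat_lit 1, nat_lit 0, nat_lit 2]
def Wt_66_70 (j : ℕ) : List ℕ := bif Nat.blt j 68 then (Wt_66_68 j) else (Wt_68_70 j)
def Wt_70_72 (j : ℕ) : List ℕ := bif Nat.blt j 71 then [nat_lit 3, nat_lit 4, nat_lit 2, nat_lit 4, nat_lit 1, nat_lit 3, nat_lit 2, nat_lit 4, nat_lit 2, nat_lit 4, nat_lit 1, nat_lit 2] else [nat_lit 0, nat_lit 2, nat_lit 0, nat_lit 1, nat_lit 0, nat_lit 2, nat_lit 0, nat_lit 1, nat_lit 0, nat_lit 1, nat_lit 2]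
def Wt_72_74 (j : ℕ) : List ℕ := bif Nat.blt j 73 then [nat_lit 1, nat_lit 0, nat_lit 2, nat_lit 0, nat_lit 1, nat_lit 0, nat_lit 2, nat_lit 0, nat_lit 2, nat_lit 1, nat_lit 0] else [nat_lit 63, nat_lit 0, nat_lit 1, nat_lit 0, nat_lit 2, nat_lit 0, nat_lit 1, nat_lit 0, nat_lit 1, nat_lit 2, nat_lit 0, nat_lit 2]
def Wt_70_74 (j : ℕ) : List ℕ := bif Nat.blt j 72 then (Wt_70_72 j) else (Wt_72_74 j)
def Wt_66_74 (j : ℕ) : List ℕ := bif Nat.blt j 70 then (Wt_66_70 j) else (Wt_70_74 j)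
def Wt_74_76 (j : ℕ) : List ℕ := bif Nat.blt j 75 then [nat_lit 63, nat_lit 1, nat_lit 63, nat_lit 1] else [nat_lit 2, nat_lit 1, nat_lit 0, nat_lit 1, nat_lit 0, nat_lit 2, nat_lit 0, nat_lit 1, nat_lit 0, nat_lit 2, nat_lit 0]
def Wt_76_78 (j : ℕ) : List ℕ := bif Nat.blt j 77 then [nat_lit 2, nat_lit 0, nat_lit 1, nat_lit 0, nat_lit 2, nat_lit 0, nat_lit 2, nat_lit 1, nat_lit 0, nat_lit 1, nat_lit 0] else [nat_lit 63, nat_lit 0, nat_lit 2, nat_lit 0, nat_lit 1, nat_lit 0, nat_lit 2, nat_lit 0, nat_lit 1, nat_lit 0, nat_lit 1, nat_lit 2]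
def Wt_74_78 (j : ℕ) : List ℕ := bif Nat.blt j 76 then (Wt_74_76 j) else (Wt_76_78 j)
def Wt_78_80 (j : ℕ) : List ℕ := bif Nat.blt j 79 then [nat_lit 4, nat_lit 1, nat_lit 4, nat_lit 2, nat_lit 0, nat_lit 2, nat_lit 4, nat_lit 1, nat_lit 4, nat_lit 0, nat_lit 1, nat_lit 2, nat_lit 1] else [nat_lit 2, nat_lit 4, nat_lit 1, nat_lit 3, nat_lit 2, nat_lit 4, nat_lit 2, nat_lit 4, nat_lit 1, nat_lit 2, nat_lit 3, nat_lit 4]
def Wt_80_82 (j : ℕ) : List ℕ := bif Nat.blt j 81 then [nat_lit 4, nat_lit 2, nat_lit 3, nat_lit 1, nat_lit 4, nat_lit 2, nat_lit 4, nat_lit 3, nat_lit 2, nat_lit 1, nat_lit 4, nat_lit 2] else [nat_lit 4, nat_lit 2, nat_lit 4, nat_lit 1, nat_lit 3, nat_lit 2, nat_lit 4, nat_lit 2, nat_lit 4, nat_lit 1, nat_lit 2, nat_lit 3]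
def Wt_78_82 (j : ℕ) : List ℕ := bif Nat.blt j 80 then (Wt_78_80 j) else (Wt_80_82 j)
def Wt_74_82 (j : ℕ) : List ℕ := bif Nat.blt j 78 then (Wt_74_78 j) else (Wt_78_82 j)
def Wt_66_82 (j : ℕ) : List ℕ := bif Nat.blt j 74 then (Wt_66_74 j) else (Wt_74_82 j)
def Wt_82_84 (j : ℕ) : List ℕ := bif Nat.blt j 83 then [nat_lit 2, nat_lit 4, nat_lit 1, nat_lit 0, nat_lit 2, nat_lit 4, nat_lit 1, nat_lit 0, nat_lit 2, nat_lit 4, nat_lit 1, nat_lit 0] else [nat_lit 4, nat_lit 3, nat_lit 4, nat_lit 3, nat_lit 0, nat_lit 4, nat_lit 1, nat_lit 0, nat_lit 3, nat_lit 4, nat_lit 2, nat_lit 3]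
def Wt_84_86 (j : ℕ) : List ℕ := bif Nat.blt j 85 then [nat_lit 1, nat_lit 3, nat_lit 2, nat_lit 4, nat_lit 2, nat_lit 4, nat_lit 1, nat_lit 2, nat_lit 3, nat_lit 4, nat_lit 2, nat_lit 4] else [nat_lit 4, nat_lit 3, nat_lit 4, nat_lit 3, nat_lit 2, nat_lit 4, nat_lit 3, nat_lit 0, nat_lit 1, nat_lit 4, nat_lit 0, nat_lit 3]
def Wt_82_86 (j : ℕ) : List ℕ := bif Nat.blt j 84 then (Wt_82_84 j) else (Wt_84_86 j)
def Wt_86_88 (j : ℕ) : List ℕ := bif Nat.blt j 87 then [nat_lit 63, nat_lit 4, nat_lit 3, nat_lit 0, nat_lit 1, nat_lit 4, nat_lit 0, nat_lit 3, nat_lit 4, nat_lit 3, nat_lit 4, nat_lit 3, nat_lit 2] else [nat_lit 63, nat_lit 1, nat_lit 3, nat_lit 2, nat_lit 4, nat_lit 2, nat_lit 4, nat_lit 1, nat_lit 2, nat_lit 3, nat_lit 4, nat_lit 2, nat_lit 4]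
def Wt_88_90 (j : ℕ) : List ℕ := bif Nat.blt j 89 then [nat_lit 3, nat_lit 3, nat_lit 63] else [nat_lit 2, nat_lit 3, nat_lit 1, nat_lit 4, nat_lit 2, nat_lit 4, nat_lit 3, nat_lit 2, nat_lit 1, nat_lit 4, nat_lit 2, nat_lit 4]
def Wt_86_90 (j : ℕ) : List ℕ := bif Nat.blt j 88 then (Wt_86_88 j) else (Wt_88_90 j)
def Wt_82_90 (j : ℕ) : List ℕ := bif Nat.blt j 86 then (Wt_82_86 j) else (Wt_86_90 j)
def Wt_90_92 (j : ℕ) : List ℕ := bif Nat.blt j 91 then [nat_lit 3, nat_lit 2, nat_lit 1, nat_lit 4, nat_lit 2, nat_lit 4, nat_lit 2, nat_lit 3, nat_lit 1, nat_lit 4, nat_lit 2, nat_lit 4] else [nat_lit 0, nat_lit 4, nat_lit 1, nat_lit 0, nat_lit 3, nat_lit 4, nat_lit 2, nat_lit 3, nat_lit 4, nat_lit 3, nat_lit 4, nat_lit 3]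
def Wt_92_94 (j : ℕ) : List ℕ := bif Nat.blt j 93 then [nat_lit 0, nat_lit 1, nat_lit 3, nat_lit 1, nat_lit 0, nat_lit 2, nat_lit 3, nat_lit 0, nat_lit 3, nat_lit 2] else [nat_lit 1, nat_lit 4, nat_lit 1, nat_lit 2, nat_lit 1, nat_lit 0, nat_lit 4, nat_lit 1, nat_lit 4, nat_lit 2, nat_lit 0, nat_lit 2, nat_lit 4]
def Wt_90_94 (j : ℕ) : List ℕ := bif Nat.blt j 92 then (Wt_90_92 j) else (Wt_92_94 j)
def Wt_94_96 (j : ℕ) : List ℕ := bif Nat.blt j 95 then [nat_lit 4, nat_lit 2, nat_lit 0, nat_lit 2, nat_lit 4, nat_lit 1, nat_lit 4, nat_lit 1, nat_lit 2, nat_lit 1, nat_lit 0, nat_lit 4, nat_lit 1] else [nat_lit 1, nat_lit 4, nat_lit 1, nat_lit 4, nat_lit 2, nat_lit 0, nat_lit 2, nat_lit 4, nat_lit 1, nat_lit 4, nat_lit 0, nat_lit 1, nat_lit 2]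
def Wt_97_99 (j : ℕ) : List ℕ := bif Nat.blt j 98 then [nat_lit 2, nat_lit 0, nat_lit 2, nat_lit 1, nat_lit 0, nat_lit 1, nat_lit 0, nat_lit 2, nat_lit 0, nat_lit 1, nat_lit 0] else [nat_lit 1, nat_lit 2, nat_lit 0, nat_lit 2, nat_lit 0, nat_lit 1, nat_lit 0, nat_lit 2, nat_lit 0, nat_lit 1, nat_lit 0]
def Wt_96_99 (j : ℕ) : List ℕ := bif Nat.blt j 97 then [nat_lit 0, nat_lit 4, nat_lit 1, nat_lit 4, nat_lit 2, nat_lit 0, nat_lit 2, nat_lit 4, nat_lit 1, nat_lit 4, nat_lit 1, nat_lit 2, nat_lit 1] else (Wt_97_99 j)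
def Wt_94_99 (j : ℕ) : List ℕ := bif Nat.blt j 96 then (Wt_94_96 j) else (Wt_96_99 j)
def Wt_90_99 (j : ℕ) : List ℕ := bif Nat.blt j 94 then (Wt_90_94 j) else (Wt_94_99 j)
def Wt_82_99 (j : ℕ) : List ℕ := bif Nat.blt j 90 then (Wt_82_90 j) else (Wt_90_99 j)
def Wt_66_99 (j : ℕ) : List ℕ := bif Nat.blt j 82 then (Wt_66_82 j) else (Wt_82_99 j)
def Wt_99_101 (j : ℕ) : List ℕ := bif Nat.blt j 100 then [nat_lit 63, nat_lit 4, nat_lit 1, nat_lit 2, nat_lit 1, nat_lit 0, nat_lit 4, nat_lit 1, nat_lit 4, nat_lit 2, nat_lit 0, nat_lit 2, nat_lit 4, nat_lit 1] else [nat_lit 4, nat_lit 1, nat_lit 2, nat_lit 1, nat_lit 0, nat_lit 4, nat_lit 1, nat_lit 4, nat_lit 2, nat_lit 0, nat_lit 2, nat_lit 4, nat_lit 1]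
def Wt_101_103 (j : ℕ) : List ℕ := bif Nat.blt j 102 then [nat_lit 63, nat_lit 0, nat_lit 1, nat_lit 2, nat_lit 1, nat_lit 4, nat_lit 1, nat_lit 4, nat_lit 2, nat_lit 0, nat_lit 2, nat_lit 4, nat_lit 1, nat_lit 4] else [nat_lit 3, nat_lit 4, nat_lit 3, nat_lit 2, nat_lit 4, nat_lit 3, nat_lit 0, nat_lit 1, nat_lit 4, nat_lit 0, nat_lit 3, nat_lit 4]
def Wt_99_103 (j : ℕ) : List ℕ := bif Nat.blt j 101 then (Wt_99_101 j) else (Wt_101_103 j)
def Wt_103_105 (j : ℕ) : List ℕ := bif Nat.blt j 104 then [nat_lit 3, nat_lit 4, nat_lit 2, nat_lit 3, nat_lit 4, nat_lit 3, nat_lit 4, nat_lit 3, nat_lit 0, nat_lit 4, nat_lit 1, nat_lit 0] else [nat_lit 1, nat_lit 0, nat_lit 2, nat_lit 4, nat_lit 1, nat_lit 0, nat_lit 2, nat_lit 4, nat_lit 1, nat_lit 0, nat_lit 2, nat_lit 4]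
def Wt_105_107 (j : ℕ) : List ℕ := bif Nat.blt j 106 then [nat_lit 63, nat_lit 0, nat_lit 3, nat_lit 4, nat_lit 2, nat_lit 3, nat_lit 4, nat_lit 3, nat_lit 4, nat_lit 3, nat_lit 0, nat_lit 4, nat_lit 1] else [nat_lit 1, nat_lit 4, nat_lit 2, nat_lit 0, nat_lit 1, nat_lit 4, nat_lit 2, nat_lit 0, nat_lit 1, nat_lit 4, nat_lit 2, nat_lit 0]
def Wt_103_107 (j : ℕ) : List ℕ := bif Nat.blt j 105 then (Wt_103_105 j) else (Wt_105_107 j)
def Wt_99_107 (j : ℕ) : List ℕ := bif Nat.blt j 103 then (Wt_99_103 j) else (Wt_103_107 j)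
def Wt_107_109 (j : ℕ) : List ℕ := bif Nat.blt j 108 then [nat_lit 4, nat_lit 0, nat_lit 3, nat_lit 4, nat_lit 3, nat_lit 4, nat_lit 3, nat_lit 2, nat_lit 4, nat_lit 3, nat_lit 0, nat_lit 1] else [nat_lit 4, nat_lit 1, nat_lit 0, nat_lit 3, nat_lit 4, nat_lit 2, nat_lit 3, nat_lit 4, nat_lit 3, nat_lit 4, nat_lit 3, nat_lit 0]
def Wt_109_111 (j : ℕ) : List ℕ := bif Nat.blt j 110 then [nat_lit 0, nat_lit 3, nat_lit 2, nat_lit 0, nat_lit 1, nat_lit 3, nat_lit 1, nat_lit 0, nat_lit 2, nat_lit 3] else [nat_lit 2, nat_lit 3, nat_lit 4, nat_lit 2, nat_lit 4, nat_lit 1, nat_lit 3, nat_lit 2, nat_lit 4, nat_lit 2, nat_lit 4, nat_lit 1]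
def Wt_107_111 (j : ℕ) : List ℕ := bif Nat.blt j 109 then (Wt_107_109 j) else (Wt_109_111 j)
def Wt_111_113 (j : ℕ) : List ℕ := bif Nat.blt j 112 then [nat_lit 0, nat_lit 1, nat_lit 4, nat_lit 2, nat_lit 0, nat_lit 1, nat_lit 4, nat_lit 2, nat_lit 0, nat_lit 1, nat_lit 4, nat_lit 2] else [nat_lit 2, nat_lit 4, nat_lit 3, nat_lit 0, nat_lit 1, nat_lit 4, nat_lit 0, nat_lit 3, nat_lit 4, nat_lit 3, nat_lit 4, nat_lit 3]
def Wt_113_115 (j : ℕ) : List ℕ := bif Nat.blt j 114 then [nat_lit 1, nat_lit 4, nat_lit 0, nat_lit 1, nat_lit 2, nat_lit 1, nat_lit 4, nat_lit 1, nat_lit 4, nat_lit 2, nat_lit 0, nat_lit 2, nat_lit 4] else [nat_lit 63, nat_lit 4, nat_lit 1, nat_lit 4, nat_lit 2, nat_lit 0, nat_lit 2, nat_lit 4, nat_lit 1, nat_lit 4, nat_lit 0, nat_lit 1, nat_lit 2, nat_lit 1]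
def Wt_111_115 (j : ℕ) : List ℕ := bif Nat.blt j 113 then (Wt_111_113 j) else (Wt_113_115 j)
def Wt_107_115 (j : ℕ) : List ℕ := bif Nat.blt j 111 then (Wt_107_111 j) else (Wt_111_115 j)
def Wt_99_115 (j : ℕ) : List ℕ := bif Nat.blt j 107 then (Wt_99_107 j) else (Wt_107_115 j)
def Wt_115_117 (j : ℕ) : List ℕ := bif Nat.blt j 116 then [nat_lit 63, nat_lit 0, nat_lit 1, nat_lit 2, nat_lit 0, nat_lit 2, nat_lit 0, nat_lit 1, nat_lit 0, nat_lit 2, nat_lit 0, nat_lit 1] else [nat_lit 0, nat_lit 1, nat_lit 0, nat_lit 2, nat_lit 0, nat_lit 1, nat_lit 0, nat_lit 2, nat_lit 0, nat_lit 2, nat_lit 1]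
def Wt_117_119 (j : ℕ) : List ℕ := bif Nat.blt j 118 then [nat_lit 4, nat_lit 3, nat_lit 0, nat_lit 4, nat_lit 1, nat_lit 0, nat_lit 3, nat_lit 4, nat_lit 2, nat_lit 3, nat_lit 4, nat_lit 3] else [nat_lit 63, nat_lit 3, nat_lit 4, nat_lit 3, nat_lit 4, nat_lit 3, nat_lit 4, nat_lit 3, nat_lit 4, nat_lit 3, nat_lit 4]
def Wt_115_119 (j : ℕ) : List ℕ := bif Nat.blt j 117 then (Wt_115_117 j) else (Wt_117_119 j)
def Wt_119_121 (j : ℕ) : List ℕ := bif Nat.blt j 120 then [nat_lit 1, nat_lit 0, nat_lit 1, nat_lit 2, nat_lit 0, nat_lit 2, nat_lit 0, nat_lit 1, nat_lit 0, nat_lit 2, nat_lit 0] else [nat_lit 63, nat_lit 2, nat_lit 0, nat_lit 1, nat_lit 0, nat_lit 2, nat_lit 0, nat_lit 1, nat_lit 0, nat_lit 1, nat_lit 2, nat_lit 0]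
def Wt_121_123 (j : ℕ) : List ℕ := bif Nat.blt j 122 then [nat_lit 63, nat_lit 1, nat_lit 4, nat_lit 2, nat_lit 0, nat_lit 2, nat_lit 4, nat_lit 1, nat_lit 4, nat_lit 1, nat_lit 2, nat_lit 1, nat_lit 0, nat_lit 4] else [nat_lit 63, nat_lit 2, nat_lit 1, nat_lit 0, nat_lit 1, nat_lit 0, nat_lit 2, nat_lit 0, nat_lit 1, nat_lit 0, nat_lit 2, nat_lit 0]
def Wt_119_123 (j : ℕ) : List ℕ := bif Nat.blt j 121 then (Wt_119_121 j) else (Wt_121_123 j)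
def Wt_115_123 (j : ℕ) : List ℕ := bif Nat.blt j 119 then (Wt_115_119 j) else (Wt_119_123 j)
def Wt_123_125 (j : ℕ) : List ℕ := bif Nat.blt j 124 then [nat_lit 2, nat_lit 0, nat_lit 1, nat_lit 0, nat_lit 1, nat_lit 2, nat_lit 0, nat_lit 2, nat_lit 0, nat_lit 1, nat_lit 0] else [nat_lit 63, nat_lit 1, nat_lit 0, nat_lit 2, nat_lit 0, nat_lit 1, nat_lit 0, nat_lit 1, nat_lit 2, nat_lit 0, nat_lit 2, nat_lit 0]
def Wt_125_127 (j : ℕ) : List ℕ := bif Nat.blt j 126 then [nat_lit 0, nat_lit 2, nat_lit 0, nat_lit 1, nat_lit 0, nat_lit 2, nat_lit 0, nat_lit 2, nat_lit 1, nat_lit 0, nat_lit 1] else [nat_lit 63, nat_lit 1, nat_lit 2, nat_lit 0, nat_lit 2, nat_lit 0, nat_lit 1, nat_lit 0, nat_lit 2, nat_lit 0, nat_lit 1, nat_lit 0]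
def Wt_123_127 (j : ℕ) : List ℕ := bif Nat.blt j 125 then (Wt_123_125 j) else (Wt_125_127 j)
def Wt_127_129 (j : ℕ) : List ℕ := bif Nat.blt j 128 then [nat_lit 4, nat_lit 1, nat_lit 4, nat_lit 1, nat_lit 2, nat_lit 1, nat_lit 0, nat_lit 4, nat_lit 1, nat_lit 4, nat_lit 2, nat_lit 0, nat_lit 2] else [nat_lit 0, nat_lit 1, nat_lit 0, nat_lit 1, nat_lit 2, nat_lit 0, nat_lit 2, nat_lit 0, nat_lit 1, nat_lit 0, nat_lit 2]
def Wt_130_132 (j : ℕ) : List ℕ := bif Nat.blt j 131 then [nat_lit 0, nat_lit 2, nat_lit 1, nat_lit 0, nat_lit 1, nat_lit 0, nat_lit 2, nat_lit 0, nat_lit 1, nat_lit 0, nat_lit 2] else [nat_lit 4, nat_lit 3, nat_lit 2, nat_lit 4, nat_lit 3, nat_lit 0, nat_lit 1, nat_lit 4, nat_lit 0, nat_lit 3, nat_lit 4, nat_lit 3]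
def Wt_129_132 (j : ℕ) : List ℕ := bif Nat.blt j 130 then [nat_lit 63, nat_lit 0, nat_lit 2, nat_lit 0, nat_lit 2, nat_lit 0, nat_lit 2, nat_lit 0, nat_lit 2, nat_lit 0, nat_lit 2] else (Wt_130_132 j)
def Wt_127_132 (j : ℕ) : List ℕ := bif Nat.blt j 129 then (Wt_127_129 j) else (Wt_129_132 j)
def Wt_123_132 (j : ℕ) : List ℕ := bif Nat.blt j 127 then (Wt_123_127 j) else (Wt_127_132 j)
def Wt_115_132 (j : ℕ) : List ℕ := bif Nat.blt j 123 then (Wt_115_123 j) else (Wt_123_132 j)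
def Wt_99_132 (j : ℕ) : List ℕ := bif Nat.blt j 115 then (Wt_99_115 j) else (Wt_115_132 j)
def Wt_66_132 (j : ℕ) : List ℕ := bif Nat.blt j 99 then (Wt_66_99 j) else (Wt_99_132 j)
def Wt_0_132 (j : ℕ) : List ℕ := bif Nat.blt j 66 then (Wt_0_66 j) else (Wt_66_132 j)
def Wt_132_134 (j : ℕ) : List ℕ := bif Nat.blt j 133 then [nat_lit 3, nat_lit 0, nat_lit 3, nat_lit 0, nat_lit 3, nat_lit 0, nat_lit 3, nat_lit 0, nat_lit 3, nat_lit 0, nat_lit 3, nat_lit 0] else [nat_lit 0, nat_lit 1, nat_lit 0, nat_lit 2, nat_lit 0, nat_lit 1, nat_lit 0, nat_lit 1, nat_lit 2, nat_lit 0, nat_lit 2]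
def Wt_134_136 (j : ℕ) : List ℕ := bif Nat.blt j 135 then [nat_lit 63, nat_lit 1, nat_lit 0, nat_lit 1, nat_lit 0, nat_lit 2, nat_lit 0, nat_lit 1, nat_lit 0, nat_lit 2, nat_lit 0, nat_lit 2] else [nat_lit 1, nat_lit 2, nat_lit 1, nat_lit 0, nat_lit 4, nat_lit 1, nat_lit 4, nat_lit 2, nat_lit 0, nat_lit 2, nat_lit 4, nat_lit 1, nat_lit 4]
def Wt_132_136 (j : ℕ) : List ℕ := bif Nat.blt j 134 then (Wt_132_134 j) else (Wt_134_136 j)
def Wt_136_138 (j : ℕ) : List ℕ := bif Nat.blt j 137 then [nat_lit 0, nat_lit 1, nat_lit 2, nat_lit 1, nat_lit 4, nat_lit 1, nat_lit 4, nat_lit 2, nat_lit 0, nat_lit 2, nat_lit 4, nat_lit 1, nat_lit 4] else [nat_lit 63, nat_lit 1, nat_lit 2, nat_lit 1, nat_lit 0, nat_lit 4, nat_lit 1, nat_lit 4, nat_lit 2, nat_lit 0, nat_lit 2, nat_lit 4, nat_lit 1, nat_lit 4]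
def Wt_138_140 (j : ℕ) : List ℕ := bif Nat.blt j 139 then [nat_lit 63, nat_lit 1, nat_lit 4, nat_lit 1, nat_lit 4, nat_lit 2, nat_lit 0, nat_lit 2, nat_lit 4, nat_lit 1, nat_lit 4, nat_lit 0, nat_lit 1, nat_lit 2] else [nat_lit 63, nat_lit 3, nat_lit 1, nat_lit 0, nat_lit 2, nat_lit 3, nat_lit 0, nat_lit 3, nat_lit 2, nat_lit 0, nat_lit 1]
def Wt_136_140 (j : ℕ) : List ℕ := bif Nat.blt j 138 then (Wt_136_138 j) else (Wt_138_140 j)
def Wt_132_140 (j : ℕ) : List ℕ := bif Nat.blt j 136 then (Wt_132_136 j) else (Wt_136_140 j)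
def Wt_140_142 (j : ℕ) : List ℕ := bif Nat.blt j 141 then [nat_lit 63, nat_lit 0, nat_lit 3, nat_lit 2, nat_lit 0, nat_lit 1, nat_lit 3, nat_lit 1, nat_lit 0, nat_lit 2, nat_lit 3] else [nat_lit 1, nat_lit 0, nat_lit 2, nat_lit 0, nat_lit 1, nat_lit 0, nat_lit 1, nat_lit 2, nat_lit 0, nat_lit 2, nat_lit 0]
def Wt_142_144 (j : ℕ) : List ℕ := bif Nat.blt j 143 then [nat_lit 4, nat_lit 2, nat_lit 4, nat_lit 2, nat_lit 3, nat_lit 1, nat_lit 4, nat_lit 2, nat_lit 4, nat_lit 3, nat_lit 2, nat_lit 1] else [nat_lit 3, nat_lit 2, nat_lit 4, nat_lit 2, nat_lit 4, nat_lit 1, nat_lit 2, nat_lit 3, nat_lit 4, nat_lit 2, nat_lit 4, nat_lit 1]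
def Wt_140_144 (j : ℕ) : List ℕ := bif Nat.blt j 142 then (Wt_140_142 j) else (Wt_142_144 j)
def Wt_144_146 (j : ℕ) : List ℕ := bif Nat.blt j 145 then [nat_lit 63, nat_lit 1, nat_lit 0, nat_lit 1, nat_lit 2, nat_lit 0, nat_lit 2, nat_lit 0, nat_lit 1, nat_lit 0, nat_lit 2, nat_lit 0] else [nat_lit 63, nat_lit 2, nat_lit 0, nat_lit 1, nat_lit 3, nat_lit 1, nat_lit 0, nat_lit 2, nat_lit 3, nat_lit 0, nat_lit 3]
def Wt_146_148 (j : ℕ) : List ℕ := bif Nat.blt j 147 then [nat_lit 4, nat_lit 3, nat_lit 0, nat_lit 1, nat_lit 4, nat_lit 0, nat_lit 3, nat_lit 4, nat_lit 3, nat_lit 4, nat_lit 3, nat_lit 2] else [nat_lit 0, nat_lit 1, nat_lit 2, nat_lit 0, nat_lit 2, nat_lit 0, nat_lit 1, nat_lit 0, nat_lit 2, nat_lit 0, nat_lit 1]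
def Wt_144_148 (j : ℕ) : List ℕ := bif Nat.blt j 146 then (Wt_144_146 j) else (Wt_146_148 j)
def Wt_140_148 (j : ℕ) : List ℕ := bif Nat.blt j 144 then (Wt_140_144 j) else (Wt_144_148 j)
def Wt_132_148 (j : ℕ) : List ℕ := bif Nat.blt j 140 then (Wt_132_140 j) else (Wt_140_148 j)
def Wt_148_150 (j : ℕ) : List ℕ := bif Nat.blt j 149 then [nat_lit 63, nat_lit 2, nat_lit 0, nat_lit 1, nat_lit 4, nat_lit 2, nat_lit 0, nat_lit 1, nat_lit 4, nat_lit 2, nat_lit 0, nat_lit 1, nat_lit 4] else [nat_lit 63, nat_lit 4, nat_lit 0, nat_lit 3, nat_lit 4, nat_lit 3, nat_lit 4, nat_lit 3, nat_lit 2, nat_lit 4, nat_lit 3, nat_lit 0, nat_lit 1]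
def Wt_150_152 (j : ℕ) : List ℕ := bif Nat.blt j 151 then [nat_lit 63, nat_lit 2, nat_lit 0, nat_lit 1, nat_lit 0, nat_lit 2, nat_lit 0, nat_lit 2, nat_lit 1, nat_lit 0, nat_lit 1, nat_lit 0] else [nat_lit 63, nat_lit 0, nat_lit 2, nat_lit 1, nat_lit 0, nat_lit 1, nat_lit 0, nat_lit 2, nat_lit 0, nat_lit 1, nat_lit 0, nat_lit 2]
def Wt_148_152 (j : ℕ) : List ℕ := bif Nat.blt j 150 then (Wt_148_150 j) else (Wt_150_152 j)
def Wt_152_154 (j : ℕ) : List ℕ := bif Nat.blt j 153 then [nat_lit 63, nat_lit 2, nat_lit 0, nat_lit 1, nat_lit 0, nat_lit 1, nat_lit 2, nat_lit 0, nat_lit 2, nat_lit 0, nat_lit 1, nat_lit 0] else [nat_lit 63, nat_lit 4, nat_lit 1, nat_lit 0, nat_lit 2, nat_lit 4, nat_lit 1, nat_lit 0, nat_lit 2, nat_lit 4, nat_lit 1, nat_lit 0, nat_lit 2]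
def Wt_154_156 (j : ℕ) : List ℕ := bif Nat.blt j 155 then [nat_lit 3, nat_lit 2, nat_lit 4, nat_lit 3, nat_lit 0, nat_lit 1, nat_lit 4, nat_lit 0, nat_lit 3, nat_lit 4, nat_lit 3, nat_lit 4] else [nat_lit 63, nat_lit 1, nat_lit 0, nat_lit 2, nat_lit 4, nat_lit 1, nat_lit 0, nat_lit 2, nat_lit 4, nat_lit 1, nat_lit 0, nat_lit 2, nat_lit 4]
def Wt_152_156 (j : ℕ) : List ℕ := bif Nat.blt j 154 then (Wt_152_154 j) else (Wt_154_156 j)
def Wt_148_156 (j : ℕ) : List ℕ := bif Nat.blt j 152 then (Wt_148_152 j) else (Wt_152_156 j)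
def Wt_156_158 (j : ℕ) : List ℕ := bif Nat.blt j 157 then [nat_lit 63, nat_lit 0, nat_lit 1, nat_lit 0, nat_lit 2, nat_lit 0, nat_lit 2, nat_lit 1, nat_lit 0, nat_lit 1, nat_lit 0, nat_lit 2] else [nat_lit 63, nat_lit 0, nat_lit 1, nat_lit 3, nat_lit 1, nat_lit 0, nat_lit 2, nat_lit 3, nat_lit 0, nat_lit 3, nat_lit 2]
def Wt_158_160 (j : ℕ) : List ℕ := bif Nat.blt j 159 then [nat_lit 63, nat_lit 3, nat_lit 0, nat_lit 3, nat_lit 2, nat_lit 0, nat_lit 1, nat_lit 3, nat_lit 1, nat_lit 0, nat_lit 2] else [nat_lit 63, nat_lit 1, nat_lit 0, nat_lit 2, nat_lit 3, nat_lit 0, nat_lit 3, nat_lit 2, nat_lit 0, nat_lit 1, nat_lit 3]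
def Wt_156_160 (j : ℕ) : List ℕ := bif Nat.blt j 158 then (Wt_156_158 j) else (Wt_158_160 j)
def Wt_160_162 (j : ℕ) : List ℕ := bif Nat.blt j 161 then [nat_lit 63, nat_lit 2, nat_lit 63, nat_lit 2, nat_lit 63] else [nat_lit 63, nat_lit 63, nat_lit 3, nat_lit 63, nat_lit 3]
def Wt_163_165 (j : ℕ) : List ℕ := bif Nat.blt j 164 then [nat_lit 63, nat_lit 2, nat_lit 0, nat_lit 2, nat_lit 0, nat_lit 2, nat_lit 0, nat_lit 2, nat_lit 0, nat_lit 2, nat_lit 0] else [nat_lit 63, nat_lit 2, nat_lit 3, nat_lit 2, nat_lit 3]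
def Wt_162_165 (j : ℕ) : List ℕ := bif Nat.blt j 163 then [nat_lit 63, nat_lit 63, nat_lit 63] else (Wt_163_165 j)
def Wt_160_165 (j : ℕ) : List ℕ := bif Nat.blt j 162 then (Wt_160_162 j) else (Wt_162_165 j)
def Wt_156_165 (j : ℕ) : List ℕ := bif Nat.blt j 160 then (Wt_156_160 j) else (Wt_160_165 j)
def Wt_148_165 (j : ℕ) : List ℕ := bif Nat.blt j 156 then (Wt_148_156 j) else (Wt_156_165 j)
def Wt_132_165 (j : ℕ) : List ℕ := bif Nat.blt j 148 then (Wt_132_148 j) else (Wt_148_165 j)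
def Wt_165_167 (j : ℕ) : List ℕ := bif Nat.blt j 166 then [nat_lit 63, nat_lit 0, nat_lit 1, nat_lit 0, nat_lit 1, nat_lit 0, nat_lit 1, nat_lit 0, nat_lit 1, nat_lit 0, nat_lit 1] else [nat_lit 63, nat_lit 3, nat_lit 0, nat_lit 3, nat_lit 0, nat_lit 3, nat_lit 0, nat_lit 3, nat_lit 0, nat_lit 3, nat_lit 0, nat_lit 3, nat_lit 0]
def Wt_167_169 (j : ℕ) : List ℕ := bif Nat.blt j 168 then [nat_lit 63, nat_lit 3, nat_lit 2, nat_lit 3, nat_lit 2] else [nat_lit 63, nat_lit 1, nat_lit 0, nat_lit 2, nat_lit 0, nat_lit 2, nat_lit 1, nat_lit 0, nat_lit 1, nat_lit 0, nat_lit 2, nat_lit 0]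
def Wt_165_169 (j : ℕ) : List ℕ := bif Nat.blt j 167 then (Wt_165_167 j) else (Wt_167_169 j)
def Wt_169_171 (j : ℕ) : List ℕ := bif Nat.blt j 170 then [nat_lit 63, nat_lit 0, nat_lit 3, nat_lit 0, nat_lit 3, nat_lit 0, nat_lit 3, nat_lit 0, nat_lit 3, nat_lit 0, nat_lit 3, nat_lit 0, nat_lit 3] else [nat_lit 63, nat_lit 1, nat_lit 3, nat_lit 1, nat_lit 0, nat_lit 2, nat_lit 3, nat_lit 0, nat_lit 3, nat_lit 2, nat_lit 0]
def Wt_171_173 (j : ℕ) : List ℕ := bif Nat.blt j 172 then [nat_lit 63, nat_lit 0, nat_lit 2, nat_lit 0, nat_lit 1, nat_lit 0, nat_lit 2, nat_lit 0, nat_lit 2, nat_lit 1, nat_lit 0, nat_lit 1] else [nat_lit 63, nat_lit 0, nat_lit 2, nat_lit 3, nat_lit 0, nat_lit 3, nat_lit 2, nat_lit 0, nat_lit 1, nat_lit 3, nat_lit 1]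
def Wt_169_173 (j : ℕ) : List ℕ := bif Nat.blt j 171 then (Wt_169_171 j) else (Wt_171_173 j)
def Wt_165_173 (j : ℕ) : List ℕ := bif Nat.blt j 169 then (Wt_165_169 j) else (Wt_169_173 j)
def Wt_173_175 (j : ℕ) : List ℕ := bif Nat.blt j 174 then [nat_lit 63, nat_lit 0, nat_lit 2, nat_lit 0, nat_lit 2, nat_lit 1, nat_lit 0, nat_lit 1, nat_lit 0, nat_lit 2, nat_lit 0, nat_lit 1] else [nat_lit 63, nat_lit 1, nat_lit 0, nat_lit 1, nat_lit 0, nat_lit 1, nat_lit 0, nat_lit 1, nat_lit 0, nat_lit 1, nat_lit 0]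
def Wt_175_177 (j : ℕ) : List ℕ := bif Nat.blt j 176 then [nat_lit 63, nat_lit 2, nat_lit 3, nat_lit 0, nat_lit 3, nat_lit 2, nat_lit 0, nat_lit 1, nat_lit 3, nat_lit 1, nat_lit 0] else [nat_lit 63, nat_lit 0, nat_lit 1, nat_lit 0, nat_lit 1, nat_lit 2, nat_lit 0, nat_lit 2, nat_lit 0, nat_lit 1, nat_lit 0, nat_lit 2]
def Wt_173_177 (j : ℕ) : List ℕ := bif Nat.blt j 175 then (Wt_173_175 j) else (Wt_175_177 j)
def Wt_177_179 (j : ℕ) : List ℕ := bif Nat.blt j 178 then [nat_lit 63, nat_lit 0, nat_lit 1, nat_lit 4, nat_lit 0, nat_lit 3, nat_lit 4, nat_lit 3, nat_lit 4, nat_lit 3, nat_lit 2, nat_lit 4, nat_lit 3] else [nat_lit 63, nat_lit 4, nat_lit 2, nat_lit 0, nat_lit 1, nat_lit 4, nat_lit 2, nat_lit 0, nat_lit 1, nat_lit 4, nat_lit 2, nat_lit 0, nat_lit 1]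
def Wt_179_181 (j : ℕ) : List ℕ := bif Nat.blt j 180 then [nat_lit 63, nat_lit 1, nat_lit 0, nat_lit 3, nat_lit 4, nat_lit 2, nat_lit 3, nat_lit 4, nat_lit 3, nat_lit 4, nat_lit 3, nat_lit 0, nat_lit 4] else [nat_lit 63, nat_lit 1, nat_lit 4, nat_lit 0, nat_lit 3, nat_lit 4, nat_lit 3, nat_lit 4, nat_lit 3, nat_lit 2, nat_lit 4, nat_lit 3, nat_lit 0]
def Wt_177_181 (j : ℕ) : List ℕ := bif Nat.blt j 179 then (Wt_177_179 j) else (Wt_179_181 j)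
def Wt_173_181 (j : ℕ) : List ℕ := bif Nat.blt j 177 then (Wt_173_177 j) else (Wt_177_181 j)
def Wt_165_181 (j : ℕ) : List ℕ := bif Nat.blt j 173 then (Wt_165_173 j) else (Wt_173_181 j)
def Wt_181_183 (j : ℕ) : List ℕ := bif Nat.blt j 182 then [nat_lit 63, nat_lit 2, nat_lit 4, nat_lit 1, nat_lit 0, nat_lit 2, nat_lit 4, nat_lit 1, nat_lit 0, nat_lit 2, nat_lit 4, nat_lit 1, nat_lit 0] else [nat_lit 1, nat_lit 4, nat_lit 2, nat_lit 4, nat_lit 2, nat_lit 3, nat_lit 1, nat_lit 4, nat_lit 2, nat_lit 4, nat_lit 3, nat_lit 2]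
def Wt_183_185 (j : ℕ) : List ℕ := bif Nat.blt j 184 then [nat_lit 63, nat_lit 0, nat_lit 3, nat_lit 4, nat_lit 3, nat_lit 4, nat_lit 3, nat_lit 2, nat_lit 4, nat_lit 3, nat_lit 0, nat_lit 1, nat_lit 4] else [nat_lit 63, nat_lit 3, nat_lit 2, nat_lit 4, nat_lit 2, nat_lit 4, nat_lit 1, nat_lit 2, nat_lit 3, nat_lit 4, nat_lit 2, nat_lit 4, nat_lit 1]
def Wt_181_185 (j : ℕ) : List ℕ := bif Nat.blt j 183 then (Wt_181_183 j) else (Wt_183_185 j)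
def Wt_185_187 (j : ℕ) : List ℕ := bif Nat.blt j 186 then [nat_lit 0, nat_lit 2, nat_lit 4, nat_lit 1, nat_lit 4, nat_lit 0, nat_lit 1, nat_lit 2, nat_lit 1, nat_lit 4, nat_lit 1, nat_lit 4, nat_lit 2] else [nat_lit 63, nat_lit 3, nat_lit 4, nat_lit 2, nat_lit 4, nat_lit 1, nat_lit 3, nat_lit 2, nat_lit 4, nat_lit 2, nat_lit 4, nat_lit 1, nat_lit 2]
def Wt_187_189 (j : ℕ) : List ℕ := bif Nat.blt j 188 then [nat_lit 63, nat_lit 4, nat_lit 2, nat_lit 4, nat_lit 3, nat_lit 2, nat_lit 1, nat_lit 4, nat_lit 2, nat_lit 4, nat_lit 2, nat_lit 3, nat_lit 1] else [nat_lit 63, nat_lit 3, nat_lit 1, nat_lit 4, nat_lit 2, nat_lit 4, nat_lit 3, nat_lit 2, nat_lit 1, nat_lit 4, nat_lit 2, nat_lit 4, nat_lit 2]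
def Wt_185_189 (j : ℕ) : List ℕ := bif Nat.blt j 187 then (Wt_185_187 j) else (Wt_187_189 j)
def Wt_181_189 (j : ℕ) : List ℕ := bif Nat.blt j 185 then (Wt_181_185 j) else (Wt_185_189 j)
def Wt_189_191 (j : ℕ) : List ℕ := bif Nat.blt j 190 then [nat_lit 63, nat_lit 2, nat_lit 1, nat_lit 4, nat_lit 2, nat_lit 4, nat_lit 2, nat_lit 3, nat_lit 1, nat_lit 4, nat_lit 2, nat_lit 4, nat_lit 3] else [nat_lit 2, nat_lit 1, nat_lit 4, nat_lit 2, nat_lit 4, nat_lit 2, nat_lit 3, nat_lit 1, nat_lit 4, nat_lit 2, nat_lit 4, nat_lit 3]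
def Wt_191_193 (j : ℕ) : List ℕ := bif Nat.blt j 192 then [nat_lit 63, nat_lit 2, nat_lit 3, nat_lit 4, nat_lit 2, nat_lit 4, nat_lit 1, nat_lit 3, nat_lit 2, nat_lit 4, nat_lit 2, nat_lit 4, nat_lit 1] else [nat_lit 2, nat_lit 4, nat_lit 3, nat_lit 2, nat_lit 1, nat_lit 4, nat_lit 2, nat_lit 4, nat_lit 2, nat_lit 3, nat_lit 1, nat_lit 4]
def Wt_189_193 (j : ℕ) : List ℕ := bif Nat.blt j 191 then (Wt_189_191 j) else (Wt_191_193 j)
def Wt_193_195 (j : ℕ) : List ℕ := bif Nat.blt j 194 then [nat_lit 2, nat_lit 4, nat_lit 1, nat_lit 2, nat_lit 3, nat_lit 4, nat_lit 2, nat_lit 4, nat_lit 1, nat_lit 3, nat_lit 2, nat_lit 4] else [nat_lit 4, nat_lit 2, nat_lit 4, nat_lit 3, nat_lit 2, nat_lit 1, nat_lit 4, nat_lit 2, nat_lit 4, nat_lit 2, nat_lit 3, nat_lit 1]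
def Wt_196_198 (j : ℕ) : List ℕ := bif Nat.blt j 197 then [nat_lit 63, nat_lit 0, nat_lit 4, nat_lit 1, nat_lit 0, nat_lit 3, nat_lit 4, nat_lit 2, nat_lit 3, nat_lit 4, nat_lit 3, nat_lit 4, nat_lit 3] else [nat_lit 3, nat_lit 4, nat_lit 3, nat_lit 4, nat_lit 3, nat_lit 0, nat_lit 4, nat_lit 1, nat_lit 0, nat_lit 3, nat_lit 4, nat_lit 2]
def Wt_195_198 (j : ℕ) : List ℕ := bif Nat.blt j 196 then [nat_lit 4, nat_lit 1, nat_lit 4, nat_lit 2, nat_lit 0, nat_lit 2, nat_lit 4, nat_lit 1, nat_lit 4, nat_lit 1, nat_lit 2, nat_lit 1, nat_lit 0] else (Wt_196_198 j)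
def Wt_193_198 (j : ℕ) : List ℕ := bif Nat.blt j 195 then (Wt_193_195 j) else (Wt_195_198 j)
def Wt_189_198 (j : ℕ) : List ℕ := bif Nat.blt j 193 then (Wt_189_193 j) else (Wt_193_198 j)
def Wt_181_198 (j : ℕ) : List ℕ := bif Nat.blt j 189 then (Wt_181_189 j) else (Wt_189_198 j)
def Wt_165_198 (j : ℕ) : List ℕ := bif Nat.blt j 181 then (Wt_165_181 j) else (Wt_181_198 j)
def Wt_132_198 (j : ℕ) : List ℕ := bif Nat.blt j 165 then (Wt_132_165 j) else (Wt_165_198 j)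
def Wt_198_200 (j : ℕ) : List ℕ := bif Nat.blt j 199 then [nat_lit 63, nat_lit 2, nat_lit 3, nat_lit 4, nat_lit 3, nat_lit 4, nat_lit 3, nat_lit 0, nat_lit 4, nat_lit 1, nat_lit 0, nat_lit 3, nat_lit 4] else [nat_lit 63, nat_lit 1, nat_lit 4, nat_lit 2, nat_lit 0, nat_lit 1, nat_lit 4, nat_lit 2, nat_lit 0, nat_lit 1, nat_lit 4, nat_lit 2, nat_lit 0]
def Wt_200_202 (j : ℕ) : List ℕ := bif Nat.blt j 201 then [nat_lit 1, nat_lit 2, nat_lit 3, nat_lit 4, nat_lit 2, nat_lit 4, nat_lit 1, nat_lit 3, nat_lit 2, nat_lit 4, nat_lit 2, nat_lit 4] else [nat_lit 63, nat_lit 4, nat_lit 3, nat_lit 4, nat_lit 3, nat_lit 0, nat_lit 4, nat_lit 1, nat_lit 0, nat_lit 3, nat_lit 4, nat_lit 2, nat_lit 3]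
def Wt_198_202 (j : ℕ) : List ℕ := bif Nat.blt j 200 then (Wt_198_200 j) else (Wt_200_202 j)
def Wt_202_204 (j : ℕ) : List ℕ := bif Nat.blt j 203 then [nat_lit 63, nat_lit 3, nat_lit 2, nat_lit 4, nat_lit 3, nat_lit 0, nat_lit 1, nat_lit 4, nat_lit 0, nat_lit 3, nat_lit 4, nat_lit 3, nat_lit 4] else [nat_lit 63, nat_lit 4, nat_lit 2, nat_lit 0, nat_lit 2, nat_lit 4, nat_lit 1, nat_lit 4, nat_lit 1, nat_lit 2, nat_lit 1, nat_lit 0, nat_lit 4, nat_lit 1]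
def Wt_204_206 (j : ℕ) : List ℕ := bif Nat.blt j 205 then [nat_lit 63, nat_lit 4, nat_lit 3, nat_lit 4, nat_lit 3, nat_lit 4, nat_lit 3, nat_lit 4, nat_lit 3, nat_lit 4, nat_lit 3] else [nat_lit 63, nat_lit 1, nat_lit 4, nat_lit 2, nat_lit 4, nat_lit 2, nat_lit 3, nat_lit 1, nat_lit 4, nat_lit 2, nat_lit 4, nat_lit 3, nat_lit 2]
def Wt_202_206 (j : ℕ) : List ℕ := bif Nat.blt j 204 then (Wt_202_204 j) else (Wt_204_206 j)
def Wt_198_206 (j : ℕ) : List ℕ := bif Nat.blt j 202 then (Wt_198_202 j) else (Wt_202_206 j)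
def Wt_206_208 (j : ℕ) : List ℕ := bif Nat.blt j 207 then [nat_lit 4, nat_lit 0, nat_lit 1, nat_lit 2, nat_lit 1, nat_lit 4, nat_lit 1, nat_lit 4, nat_lit 2, nat_lit 0, nat_lit 2, nat_lit 4, nat_lit 1] else [nat_lit 63, nat_lit 1, nat_lit 4, nat_lit 2, nat_lit 4, nat_lit 3, nat_lit 2, nat_lit 1, nat_lit 4, nat_lit 2, nat_lit 4, nat_lit 2, nat_lit 3]
def Wt_208_210 (j : ℕ) : List ℕ := bif Nat.blt j 209 then [nat_lit 63, nat_lit 3, nat_lit 4, nat_lit 2, nat_lit 3, nat_lit 4, nat_lit 3, nat_lit 4, nat_lit 3, nat_lit 0, nat_lit 4, nat_lit 1, nat_lit 0] else [nat_lit 4, nat_lit 1, nat_lit 4, nat_lit 0, nat_lit 1, nat_lit 2, nat_lit 1, nat_lit 4, nat_lit 1, nat_lit 4, nat_lit 2, nat_lit 0, nat_lit 2]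
def Wt_206_210 (j : ℕ) : List ℕ := bif Nat.blt j 208 then (Wt_206_208 j) else (Wt_208_210 j)
def Wt_210_212 (j : ℕ) : List ℕ := bif Nat.blt j 211 then [nat_lit 63, nat_lit 0, nat_lit 2, nat_lit 4, nat_lit 1, nat_lit 0, nat_lit 2, nat_lit 4, nat_lit 1, nat_lit 0, nat_lit 2, nat_lit 4, nat_lit 1] else [nat_lit 63, nat_lit 4, nat_lit 3, nat_lit 0, nat_lit 4, nat_lit 1, nat_lit 0, nat_lit 3, nat_lit 4, nat_lit 2, nat_lit 3, nat_lit 4, nat_lit 3]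
def Wt_212_214 (j : ℕ) : List ℕ := bif Nat.blt j 213 then [nat_lit 2, nat_lit 0, nat_lit 2, nat_lit 4, nat_lit 1, nat_lit 4, nat_lit 0, nat_lit 1, nat_lit 2, nat_lit 1, nat_lit 4, nat_lit 1, nat_lit 4] else [nat_lit 63, nat_lit 3, nat_lit 4, nat_lit 3, nat_lit 4, nat_lit 3, nat_lit 2, nat_lit 4, nat_lit 3, nat_lit 0, nat_lit 1, nat_lit 4, nat_lit 0]
def Wt_210_214 (j : ℕ) : List ℕ := bif Nat.blt j 212 then (Wt_210_212 j) else (Wt_212_214 j)
def Wt_206_214 (j : ℕ) : List ℕ := bif Nat.blt j 210 then (Wt_206_210 j) else (Wt_210_214 j)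
def Wt_198_214 (j : ℕ) : List ℕ := bif Nat.blt j 206 then (Wt_198_206 j) else (Wt_206_214 j)
def Wt_214_216 (j : ℕ) : List ℕ := bif Nat.blt j 215 then [nat_lit 63, nat_lit 4, nat_lit 1, nat_lit 4, nat_lit 1, nat_lit 2, nat_lit 1, nat_lit 0, nat_lit 4, nat_lit 1, nat_lit 4, nat_lit 2, nat_lit 0, nat_lit 2] else [nat_lit 63, nat_lit 1, nat_lit 63, nat_lit 1, nat_lit 63]
def Wt_216_218 (j : ℕ) : List ℕ := bif Nat.blt j 217 then [nat_lit 63, nat_lit 4, nat_lit 63, nat_lit 4, nat_lit 63] else [nat_lit 63, nat_lit 0, nat_lit 63, nat_lit 0, nat_lit 63]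
def Wt_214_218 (j : ℕ) : List ℕ := bif Nat.blt j 216 then (Wt_214_216 j) else (Wt_216_218 j)
def Wt_218_220 (j : ℕ) : List ℕ := bif Nat.blt j 219 then [nat_lit 0, nat_lit 63, nat_lit 0, nat_lit 63] else [nat_lit 63, nat_lit 4, nat_lit 0, nat_lit 1, nat_lit 2, nat_lit 1, nat_lit 4, nat_lit 1, nat_lit 4, nat_lit 2, nat_lit 0, nat_lit 2, nat_lit 4, nat_lit 1]
def Wt_220_222 (j : ℕ) : List ℕ := bif Nat.blt j 221 then [nat_lit 63, nat_lit 2, nat_lit 0, nat_lit 2, nat_lit 4, nat_lit 1, nat_lit 4, nat_lit 0, nat_lit 1, nat_lit 2, nat_lit 1, nat_lit 4, nat_lit 1, nat_lit 4] else [nat_lit 63, nat_lit 0, nat_lit 4, nat_lit 1, nat_lit 4, nat_lit 2, nat_lit 0, nat_lit 2, nat_lit 4, nat_lit 1, nat_lit 4, nat_lit 1, nat_lit 2, nat_lit 1]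
def Wt_218_222 (j : ℕ) : List ℕ := bif Nat.blt j 220 then (Wt_218_220 j) else (Wt_220_222 j)
def Wt_214_222 (j : ℕ) : List ℕ := bif Nat.blt j 218 then (Wt_214_218 j) else (Wt_218_222 j)
def Wt_222_224 (j : ℕ) : List ℕ := bif Nat.blt j 223 then [nat_lit 63, nat_lit 4, nat_lit 2, nat_lit 4, nat_lit 1, nat_lit 3, nat_lit 2, nat_lit 4, nat_lit 2, nat_lit 4, nat_lit 1, nat_lit 2, nat_lit 3] else [nat_lit 63, nat_lit 4, nat_lit 1, nat_lit 4, nat_lit 2, nat_lit 0, nat_lit 2, nat_lit 4, nat_lit 1, nat_lit 4, nat_lit 1, nat_lit 2, nat_lit 1, nat_lit 0]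
def Wt_224_226 (j : ℕ) : List ℕ := bif Nat.blt j 225 then [nat_lit 63, nat_lit 3, nat_lit 4, nat_lit 3, nat_lit 4, nat_lit 3, nat_lit 0, nat_lit 4, nat_lit 1, nat_lit 0, nat_lit 3, nat_lit 4, nat_lit 2] else [nat_lit 63, nat_lit 0, nat_lit 2, nat_lit 4, nat_lit 1, nat_lit 4, nat_lit 1, nat_lit 2, nat_lit 1, nat_lit 0, nat_lit 4, nat_lit 1, nat_lit 4, nat_lit 2]
def Wt_222_226 (j : ℕ) : List ℕ := bif Nat.blt j 224 then (Wt_222_224 j) else (Wt_224_226 j)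
def Wt_226_228 (j : ℕ) : List ℕ := bif Nat.blt j 227 then [nat_lit 63, nat_lit 2, nat_lit 1, nat_lit 4, nat_lit 1, nat_lit 4, nat_lit 2, nat_lit 0, nat_lit 2, nat_lit 4, nat_lit 1, nat_lit 4, nat_lit 0, nat_lit 1] else [nat_lit 63, nat_lit 3, nat_lit 2, nat_lit 1, nat_lit 4, nat_lit 2, nat_lit 4, nat_lit 2, nat_lit 3, nat_lit 1, nat_lit 4, nat_lit 2, nat_lit 4]
def Wt_229_231 (j : ℕ) : List ℕ := bif Nat.blt j 230 then [nat_lit 63, nat_lit 4, nat_lit 3, nat_lit 2, nat_lit 4, nat_lit 3, nat_lit 0, nat_lit 1, nat_lit 4, nat_lit 0, nat_lit 3, nat_lit 4, nat_lit 3] else [nat_lit 63, nat_lit 2, nat_lit 0, nat_lit 2, nat_lit 1, nat_lit 0, nat_lit 1, nat_lit 0, nat_lit 2, nat_lit 0, nat_lit 1, nat_lit 0]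
def Wt_228_231 (j : ℕ) : List ℕ := bif Nat.blt j 229 then [nat_lit 63, nat_lit 2, nat_lit 3, nat_lit 1, nat_lit 4, nat_lit 2, nat_lit 4, nat_lit 3, nat_lit 2, nat_lit 1, nat_lit 4, nat_lit 2, nat_lit 4] else (Wt_229_231 j)
def Wt_226_231 (j : ℕ) : List ℕ := bif Nat.blt j 228 then (Wt_226_228 j) else (Wt_228_231 j)
def Wt_222_231 (j : ℕ) : List ℕ := bif Nat.blt j 226 then (Wt_222_226 j) else (Wt_226_231 j)
def Wt_214_231 (j : ℕ) : List ℕ := bif Nat.blt j 222 then (Wt_214_222 j) else (Wt_222_231 j)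
def Wt_198_231 (j : ℕ) : List ℕ := bif Nat.blt j 214 then (Wt_198_214 j) else (Wt_214_231 j)
def Wt_231_233 (j : ℕ) : List ℕ := bif Nat.blt j 232 then [nat_lit 63, nat_lit 1, nat_lit 4, nat_lit 0, nat_lit 1, nat_lit 2, nat_lit 1, nat_lit 4, nat_lit 1, nat_lit 4, nat_lit 2, nat_lit 0, nat_lit 2, nat_lit 4] else [nat_lit 0, nat_lit 2, nat_lit 0, nat_lit 1, nat_lit 0, nat_lit 1, nat_lit 2, nat_lit 0, nat_lit 2, nat_lit 0, nat_lit 1]
def Wt_233_235 (j : ℕ) : List ℕ := bif Nat.blt j 234 then [nat_lit 63, nat_lit 3, nat_lit 4, nat_lit 3, nat_lit 2, nat_lit 4, nat_lit 3, nat_lit 0, nat_lit 1, nat_lit 4, nat_lit 0, nat_lit 3, nat_lit 4] else [nat_lit 63, nat_lit 63, nat_lit 1, nat_lit 63, nat_lit 1]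
def Wt_231_235 (j : ℕ) : List ℕ := bif Nat.blt j 233 then (Wt_231_233 j) else (Wt_233_235 j)
def Wt_235_237 (j : ℕ) : List ℕ := bif Nat.blt j 236 then [nat_lit 4, nat_lit 1, nat_lit 2, nat_lit 3, nat_lit 4, nat_lit 2, nat_lit 4, nat_lit 1, nat_lit 3, nat_lit 2, nat_lit 4, nat_lit 2] else [nat_lit 63, nat_lit 1, nat_lit 2, nat_lit 3, nat_lit 4, nat_lit 2, nat_lit 4, nat_lit 1, nat_lit 3, nat_lit 2, nat_lit 4, nat_lit 2, nat_lit 4]
def Wt_237_239 (j : ℕ) : List ℕ := bif Nat.blt j 238 then [nat_lit 63, nat_lit 1, nat_lit 4, nat_lit 1, nat_lit 2, nat_lit 1, nat_lit 0, nat_lit 4, nat_lit 1, nat_lit 4, nat_lit 2, nat_lit 0, nat_lit 2, nat_lit 4] else [nat_lit 63, nat_lit 2, nat_lit 0, nat_lit 2, nat_lit 4, nat_lit 1, nat_lit 4, nat_lit 1, nat_lit 2, nat_lit 1, nat_lit 0, nat_lit 4, nat_lit 1, nat_lit 4]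
def Wt_235_239 (j : ℕ) : List ℕ := bif Nat.blt j 237 then (Wt_235_237 j) else (Wt_237_239 j)
def Wt_231_239 (j : ℕ) : List ℕ := bif Nat.blt j 235 then (Wt_231_235 j) else (Wt_235_239 j)
def Wt_239_241 (j : ℕ) : List ℕ := bif Nat.blt j 240 then [nat_lit 63, nat_lit 2, nat_lit 4, nat_lit 1, nat_lit 2, nat_lit 3, nat_lit 4, nat_lit 2, nat_lit 4, nat_lit 1, nat_lit 3, nat_lit 2, nat_lit 4] else [nat_lit 63, nat_lit 2, nat_lit 4, nat_lit 3, nat_lit 2, nat_lit 1, nat_lit 4, nat_lit 2, nat_lit 4, nat_lit 2, nat_lit 3, nat_lit 1, nat_lit 4]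
def Wt_241_243 (j : ℕ) : List ℕ := bif Nat.blt j 242 then [nat_lit 63, nat_lit 2, nat_lit 4, nat_lit 2, nat_lit 4, nat_lit 1, nat_lit 2, nat_lit 3, nat_lit 4, nat_lit 2, nat_lit 4, nat_lit 1, nat_lit 3] else [nat_lit 63, nat_lit 4, nat_lit 2, nat_lit 3, nat_lit 4, nat_lit 3, nat_lit 4, nat_lit 3, nat_lit 0, nat_lit 4, nat_lit 1, nat_lit 0, nat_lit 3]
def Wt_239_243 (j : ℕ) : List ℕ := bif Nat.blt j 241 then (Wt_239_241 j) else (Wt_241_243 j)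
def Wt_243_245 (j : ℕ) : List ℕ := bif Nat.blt j 244 then [nat_lit 63, nat_lit 3, nat_lit 4, nat_lit 3, nat_lit 0, nat_lit 4, nat_lit 1, nat_lit 0, nat_lit 3, nat_lit 4, nat_lit 2, nat_lit 3, nat_lit 4] else [nat_lit 63, nat_lit 4, nat_lit 2, nat_lit 4, nat_lit 2, nat_lit 3, nat_lit 1, nat_lit 4, nat_lit 2, nat_lit 4, nat_lit 3, nat_lit 2, nat_lit 1]
def Wt_245_247 (j : ℕ) : List ℕ := bif Nat.blt j 246 then [nat_lit 4, nat_lit 3, nat_lit 2, nat_lit 1, nat_lit 4, nat_lit 2, nat_lit 4, nat_lit 2, nat_lit 3, nat_lit 1, nat_lit 4, nat_lit 2] else [nat_lit 63, nat_lit 3, nat_lit 0, nat_lit 1, nat_lit 4, nat_lit 0, nat_lit 3, nat_lit 4, nat_lit 3, nat_lit 4, nat_lit 3, nat_lit 2, nat_lit 4]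
def Wt_243_247 (j : ℕ) : List ℕ := bif Nat.blt j 245 then (Wt_243_245 j) else (Wt_245_247 j)
def Wt_239_247 (j : ℕ) : List ℕ := bif Nat.blt j 243 then (Wt_239_243 j) else (Wt_243_247 j)
def Wt_231_247 (j : ℕ) : List ℕ := bif Nat.blt j 239 then (Wt_231_239 j) else (Wt_239_247 j)
def Wt_247_249 (j : ℕ) : List ℕ := bif Nat.blt j 248 then [nat_lit 63, nat_lit 4, nat_lit 1, nat_lit 4, nat_lit 0, nat_lit 1, nat_lit 2, nat_lit 1, nat_lit 4, nat_lit 1, nat_lit 4, nat_lit 2, nat_lit 0, nat_lit 2] else [nat_lit 63, nat_lit 1, nat_lit 0, nat_lit 4, nat_lit 1, nat_lit 4, nat_lit 2, nat_lit 0, nat_lit 2, nat_lit 4, nat_lit 1, nat_lit 4, nat_lit 1, nat_lit 2]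
def Wt_249_251 (j : ℕ) : List ℕ := bif Nat.blt j 250 then [nat_lit 63, nat_lit 4, nat_lit 3, nat_lit 4, nat_lit 3, nat_lit 2, nat_lit 4, nat_lit 3, nat_lit 0, nat_lit 1, nat_lit 4, nat_lit 0, nat_lit 3] else [nat_lit 63, nat_lit 3, nat_lit 63, nat_lit 3, nat_lit 63]
def Wt_247_251 (j : ℕ) : List ℕ := bif Nat.blt j 249 then (Wt_247_249 j) else (Wt_249_251 j)
def Wt_251_253 (j : ℕ) : List ℕ := bif Nat.blt j 252 then [nat_lit 63, nat_lit 63, nat_lit 0, nat_lit 63, nat_lit 0] else [nat_lit 63, nat_lit 63, nat_lit 2, nat_lit 63, nat_lit 2]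
def Wt_253_255 (j : ℕ) : List ℕ := bif Nat.blt j 254 then [nat_lit 63, nat_lit 63, nat_lit 63, nat_lit 63] else [nat_lit 63, nat_lit 63, nat_lit 4, nat_lit 63, nat_lit 4]
def Wt_251_255 (j : ℕ) : List ℕ := bif Nat.blt j 253 then (Wt_251_253 j) else (Wt_253_255 j)
def Wt_247_255 (j : ℕ) : List ℕ := bif Nat.blt j 251 then (Wt_247_251 j) else (Wt_251_255 j)
def Wt_255_257 (j : ℕ) : List ℕ := bif Nat.blt j 256 then [nat_lit 63, nat_lit 63, nat_lit 3, nat_lit 63, nat_lit 3, nat_lit 63] else [nat_lit 63, nat_lit 63, nat_lit 1, nat_lit 63, nat_lit 1, nat_lit 63]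
def Wt_257_259 (j : ℕ) : List ℕ := bif Nat.blt j 258 then [nat_lit 1, nat_lit 63, nat_lit 1, nat_lit 63] else [nat_lit 63, nat_lit 63, nat_lit 2, nat_lit 63, nat_lit 2, nat_lit 63]
def Wt_255_259 (j : ℕ) : List ℕ := bif Nat.blt j 257 then (Wt_255_257 j) else (Wt_257_259 j)
def Wt_259_261 (j : ℕ) : List ℕ := bif Nat.blt j 260 then [nat_lit 63, nat_lit 63, nat_lit 0, nat_lit 63, nat_lit 0, nat_lit 63] else [nat_lit 63, nat_lit 63, nat_lit 63, nat_lit 63, nat_lit 63]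
def Wt_262_264 (j : ℕ) : List ℕ := bif Nat.blt j 263 then [nat_lit 2, nat_lit 63, nat_lit 2, nat_lit 63] else [nat_lit 3, nat_lit 63, nat_lit 3, nat_lit 63]
def Wt_261_264 (j : ℕ) : List ℕ := bif Nat.blt j 262 then [nat_lit 63, nat_lit 63, nat_lit 4, nat_lit 63, nat_lit 4, nat_lit 63] else (Wt_262_264 j)
def Wt_259_264 (j : ℕ) : List ℕ := bif Nat.blt j 261 then (Wt_259_261 j) else (Wt_261_264 j)
def Wt_255_264 (j : ℕ) : List ℕ := bif Nat.blt j 259 then (Wt_255_259 j) else (Wt_259_264 j)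
def Wt_247_264 (j : ℕ) : List ℕ := bif Nat.blt j 255 then (Wt_247_255 j) else (Wt_255_264 j)
def Wt_231_264 (j : ℕ) : List ℕ := bif Nat.blt j 247 then (Wt_231_247 j) else (Wt_247_264 j)
def Wt_198_264 (j : ℕ) : List ℕ := bif Nat.blt j 231 then (Wt_198_231 j) else (Wt_231_264 j)
def Wt_132_264 (j : ℕ) : List ℕ := bif Nat.blt j 198 then (Wt_132_198 j) else (Wt_198_264 j)
def Wt_0_264 (j : ℕ) : List ℕ := bif Nat.blt j 132 then (Wt_0_132 j) else (Wt_132_264 j)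
def Wt (j : ℕ) : List ℕ := (Wt_0_264 j)
def W (j : ℕ) : List ℕ := bif Nat.blt j 264 then Wt j else []
theorem W_ge (j : ℕ) (h : 264 ≤ j) : W j = [] := by
  unfold W
  rw [blt_false_of_le h]
  rfl
def Hl : List ℕ := [nat_lit 0, nat_lit 1, nat_lit 2, nat_lit 3]
def isH (y : ℕ) : Bool := List.elem y Hl
def Rb : List (List ℕ) := [[nat_lit 0, nat_lit 0],
  [nat_lit 1, nat_lit 1],
  [nat_lit 1, nat_lit 0, nat_lit 1, nat_lit 0, nat_lit 1, nat_lit 0, nat_lit 1, nat_lit 0, nat_lit 1, nat_lit 0],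
  [nat_lit 2, nat_lit 2],
  [nat_lit 2, nat_lit 0, nat_lit 2, nat_lit 0, nat_lit 2, nat_lit 0, nat_lit 2, nat_lit 0, nat_lit 2, nat_lit 0],
  [nat_lit 2, nat_lit 0, nat_lit 1, nat_lit 0, nat_lit 2, nat_lit 0, nat_lit 2, nat_lit 1, nat_lit 0, nat_lit 1, nat_lit 0],
  [nat_lit 3, nat_lit 3],
  [nat_lit 3, nat_lit 2, nat_lit 3, nat_lit 2],
  [nat_lit 0, nat_lit 2, nat_lit 3, nat_lit 0, nat_lit 3, nat_lit 2, nat_lit 0, nat_lit 1, nat_lit 3, nat_lit 1],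
  [nat_lit 4, nat_lit 4],
  [nat_lit 3, nat_lit 0, nat_lit 3, nat_lit 0, nat_lit 3, nat_lit 0, nat_lit 3, nat_lit 0, nat_lit 3, nat_lit 0, nat_lit 3, nat_lit 0],
  [nat_lit 2, nat_lit 1, nat_lit 2, nat_lit 1, nat_lit 2, nat_lit 1],
  [nat_lit 4, nat_lit 3, nat_lit 4, nat_lit 3, nat_lit 4, nat_lit 3, nat_lit 4, nat_lit 3, nat_lit 4, nat_lit 3],
  [nat_lit 0, nat_lit 3, nat_lit 4, nat_lit 2, nat_lit 3, nat_lit 4, nat_lit 3, nat_lit 4, nat_lit 3, nat_lit 0, nat_lit 4, nat_lit 1],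
  [nat_lit 0, nat_lit 2, nat_lit 4, nat_lit 1, nat_lit 0, nat_lit 2, nat_lit 4, nat_lit 1, nat_lit 0, nat_lit 2, nat_lit 4, nat_lit 1],
  [nat_lit 1, nat_lit 4, nat_lit 2, nat_lit 4, nat_lit 2, nat_lit 3, nat_lit 1, nat_lit 4, nat_lit 2, nat_lit 4, nat_lit 3, nat_lit 2],
  [nat_lit 4, nat_lit 1, nat_lit 4, nat_lit 2, nat_lit 0, nat_lit 2, nat_lit 4, nat_lit 1, nat_lit 4, nat_lit 1, nat_lit 2, nat_lit 1, nat_lit 0],
  []]
def spT_0_2 (j : ℕ) : ℕ := bif Nat.blt j 1 then nat_lit 0xe01e000080100000201c000160200000402100008020000040200000601c0000001000000012000000120000000c0001401a00000014000000040000001b00010010000020100000400a0000a00b0000601a0000601d0001200a000000060001000a0000600a0000a0100001000a0000800a0000201600000016000000060000800b000000020001200b0000e00b000000180000c0100001201000002008000040100000000000000000000020210000c021000020040001601b0000001a0000601b0000601e0000201a00000016000060210001201a0000200e0000801a0000201b000020180000c01e0000e01a0000401d0000a020000020160000000e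 else nat_lit 0xe0200000600b0000000a0001000b0000000b0000c00a000020200000c00b0000400b000020180001001a0001200a0000400b00008021000180210001201b0000001d0000201f000080100001601a0000401b0000201d0000001a0000001c0000401a0000c01b0000002100012020000100200000800b0000a00a000000200000802100006020000100200000e0100001401a0001601e0000a01e0000000c0000a01f0001201b0000a01b0000c01f0000c01a0000401c0000601f0000801e0000801f0000a0210000a00b0000200a0000e00a000000020000e00b0001400a0000c00b0000401f000060100000c020000180200000801b000000080000a01f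
def spT_3_5 (j : ℕ) : ℕ := bif Nat.blt j 4 then nat_lit 0xc000000120000002200000006000000000000000c0000801b00016020000140210001401b0001401e0000201e0000c01a0000401a0000e01f0001001e0001201f000060200000e0200001601f0001601f000000020000a01b0001400b000160210000800a0000c01b0000801e0001401e00004021000080200000801a000000200000401f000180200000e02100018021000000000000000000000012000000020000c0200000601b000100210000e01a0000001c000160210000201a0000c01e000000210000001e00000018000040200000e01b0000a01a0000001f0000001d0000601a0000a01a0001201a000020200001001e0001401f0001201e else nat_lit 0xc00000006000000120000002200000000000000060000000200000002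
def spT_2_5 (j : ℕ) : ℕ := bif Nat.blt j 3 then nat_lit 0x1f0000001e0001601e0000a01e0000e01e0000201f000120210000c01f0000401b0000201e0000201c0000001b0001601a0000201d0001601b0000000b00002010000000040000600a000000100001400a0000e010000020140000400a0000000e00000014000020040000200e00000008000000220000000c0000000600012010000040100000c0100000200a0000601c0001001b0000401c0001400b0000a00a0000000a0000201b0000401d0000600b0001401b0000a0100000200b0000e01f0000401e0001200b0000601000010010000060210001202000002021000140200000e00a0001000b000020140000e01b0000c00a000020080000200b else (spT_3_5 j)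
def spT_0_5 (j : ℕ) : ℕ := bif Nat.blt j 2 then (spT_0_2 j) else (spT_2_5 j)
def spT (j : ℕ) : ℕ := (spT_0_5 j)
def sp (j : ℕ) : ℕ := Nat.land (Nat.shiftRight (spT (Nat.shiftRight j 6)) (Nat.mul (Nat.land j 63) 32)) 4294967295
theorem Eo_lt (r : ℕ) : Eo r < 18014398509481984 := land54_lt _
def cT_1_3 (j : ℕ) : ℕ := bif Nat.blt j 2 then nat_lit 0x45500043e00043d0003d90003ca00039c00039b00038d00037b0003180002fc0002e00002df0002d50002be0002b90002b40002b20002ae0002ad0002aa00028600027900026b00025d00025c0002590002570002560002540002320002190002180002170002010002000001ff0001fe0001fd0001fc0001fa0001f20001e20001d50001d20001ca0001c90001c70001c60001c50001bb0001b80001b30001b20001b10001af0001ad0001ab00019b00019a00019900019600018300018100017300017100016f00016d00016c00016b00016a00016900015a00015400014f00014a00014600014100014000013f00013e00013b00013600013500013400012c00012400012300012000011400011300011200011000010f00010d00010c0001070000f50000f40000f30000ee0000eb0000ea0000e60000e10000dd0000da0000d90000d80000d70000d60000d00000cf0000ce0000cd0000cc0000cb0000ca0000c10000c00000bc0000bb0000b90000b60000b50000b30000b20000b0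 else nat_lit 0x6f20006b50005c10005a50005a40005570004b800048100046f000468
def cT_0_3 (j : ℕ) : ℕ := bif Nat.blt j 1 then nat_lit 0xae0000ac0000ab0000a80000a70000a50000a20000a000009f00009d00009b00009a00009900009700009200009100009000008d00008c00008b00008900008800008700008500008400008200008100008000007f00007e00007d00007b00007a00007900007400007300006d00006c00006800006700006600006300006200006000005f00005e00005d00005c00005b00005a00005800005700005600005400005300005200004f00004e00004d00004c00004b00004a00004500004300004200004100004000003f00003e00003d00003c00003a00003900003700003600003500003400003300003200003100003000002f00002e00002d00002c00002b00002a00002900002800002700002600002500002400002300002200002100001f00001e00001d00001c00001b00001a00001900001800001700001600001500001400001300001200001100001000000f00000e00000d00000c00000b00000a000009000008000007000006000005000004000003000002000001000000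 else (cT_1_3 j)
def cT (j : ℕ) : ℕ := (cT_0_3 j)
noncomputable def cChunk (h : ℕ) : ℕ := Nat.rec (motive := fun _ => ℕ) (cT 0) (fun n _ => cT (Nat.succ n)) h
noncomputable def cF (i : ℕ) : ℕ := Nat.land (Nat.shiftRight (cChunk (Nat.shiftRight i 7)) (Nat.mul (Nat.land i 127) 24)) 16777215
theorem cF_lt (i : ℕ) : cF i < 16777216 := land24_lt _
theorem cF_zero : cF 0 = 0 := by decide +kernel
def nDef : ℕ := 22054
def nEv : ℕ := 54224
def nW : ℕ := 264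
def N : ℕ := 266
def ys : List ℕ := [nat_lit 0, nat_lit 1, nat_lit 2, nat_lit 3, nat_lit 4]
end Cfsg.Agent.Lib.ToddCox.J1T
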