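import Cfsg.Agent.Lib.ToddCox.J1T.Tab
set_option autoImplicit false
set_option maxRecDepth 100000
namespace Cfsg.Agent.Lib.ToddCox.J1T
theorem a0 : allBits chkAll 10 0 = true := by decide +kernel
theorem bk0 : allBits (fun i => bif (and (Nat.ble 0 i) (Nat.blt i 1)) then chkBlockPt tab Sw 0 1 i (pr i) else true) 9 0 = true := by decide +kernel
theorem bk1 : allBits (fun i => bif (and (Nat.ble 1 i) (Nat.blt i 133)) then chkBlockPt tab Sw 1 133 i (pr i) else true) 9 0 = true := by decide +kernel
theorem bk2 : allBits (fun i => bif (and (Nat.ble 133 i) (Nat.blt i 243)) then chkBlockPt tab Sw 133 243 i (pr i) else true) 9 0 = true := by decide +kernel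
theorem bk3 : allBits (fun i => bif (and (Nat.ble 243 i) (Nat.blt i 255)) then chkBlockPt tab Sw 243 255 i (pr i) else true) 9 0 = true := by decide +kernel
theorem bk4 : allBits (fun i => bif (and (Nat.ble 255 i) (Nat.blt i 266)) then chkBlockPt tab Sw 255 266 i (pr i) else true) 9 0 = true := by decide +kernel
end Cfsg.Agent.Lib.ToddCox.J1T
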