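import Cfsg.Agent.Lib.ToddCox.J1T.TabD0
set_option autoImplicit false
set_option maxRecDepth 100000
namespace Cfsg.Agent.Lib.ToddCox.J1T
def tT_0_2 (j : ℕ) : ℕ := bif Nat.blt j 1 then T_0 else T_1
def tT_3_5 (j : ℕ) : ℕ := bif Nat.blt j 4 then T_3 else T_4
def tT_2_5 (j : ℕ) : ℕ := bif Nat.blt j 3 then T_2 else (tT_3_5 j)
def tT_0_5 (j : ℕ) : ℕ := bif Nat.blt j 2 then (tT_0_2 j) else (tT_2_5 j)
def tT_5_7 (j : ℕ) : ℕ := bif Nat.blt j 6 then T_5 else T_6
def tT_8_10 (j : ℕ) : ℕ := bif Nat.blt j 9 then T_8 else T_9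
def tT_7_10 (j : ℕ) : ℕ := bif Nat.blt j 8 then T_7 else (tT_8_10 j)
def tT_5_10 (j : ℕ) : ℕ := bif Nat.blt j 7 then (tT_5_7 j) else (tT_7_10 j)
def tT_0_10 (j : ℕ) : ℕ := bif Nat.blt j 5 then (tT_0_5 j) else (tT_5_10 j)
def tT (j : ℕ) : ℕ := (tT_0_10 j)
noncomputable def tC (h : ℕ) : ℕ := Nat.rec (motive := fun _ => ℕ) (tT 0) (fun n _ => tT (Nat.succ n)) h
noncomputable def tab (y i : ℕ) : ℕ := Nat.land (Nat.shiftRight (tC (Nat.add (Nat.mul y 2) (Nat.shiftRight i 8))) (Nat.mul (Nat.land i 255) 18)) 262143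
def prT_1_3 (j : ℕ) : ℕ := bif Nat.blt j 2 then nat_lit 0x10000017020000f7000000f7060000f6000000f6000000f5040000f4020000f4060000f3040000f3020000f3000000f310000006060000ec060000e3060000e0060000df000000de060000dd000000d9060000d4020000d4060000d2060000cf000000cc000000cb020000ca040000c9000000c8060000c6060000c5040000c5020000c5060000c4020000c4000000be000000bd040000bb060000ba040000ba000000b9040000b7020000b7000000b5060000b4000000b4040000b2020000b2000000b1060000af020000ae060000ad020000ad060000ac000000ac060000ab040000ab000000a9000000a7000000a6040000a3020000a3000000a2040000a00200009f0600009e0200009e0400009d0000009d0000009c0400009b0200009b0000009a0000009906000098040000980200009700000097060000960200009600000096060000950400009502000095000000940400009302000093000000910600009004000090020000900200008f0000008f0600008e0200008e0000008e0600008d0400008d0200008d0200008c0000008c0600008b0200008b0000008b0600008a0400008a0000008a020000890000008906000088020000880000008806000087040000870000008706000086040000860200008606000085040000850200008500000085100000020600007c0600007a060000790600007806000073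 else nat_lit 0x4000105020001050400010402000104000001020000010106000100040000ff020000ff000000ff
def prT_0_3 (j : ℕ) : ℕ := bif Nat.blt j 1 then nat_lit 0x6000072060000700600006c0200006c0600006a0000006900000063000000620200005f0200005c060000570600005400000053000000490600004504000045060000420400004102000041000000400600003f0000003f0600003e0000003e0000003c02000039060000380400003706000035040000350200003500000033000000320600003100000031000000300000002f0400002d0200002d0200002c0000002c0600002b0200002b0000002b0600002a0400002a06000029040000290200002900000028060000270600002606000025040000250200002506000022000000220600002100000021000000200600001f0400001f0000001e0600001c0400001c0200001c0200001b0600001a0200001a0000001a06000019040000190000001806000017000000160000001506000014040000140200001402000013060000120200001200000012060000110400001102000011000000100600000f0400000f0200000f0000000e0000000d0600000c0400000c0200000c0200000b0000000b0600000a0200000a0000000a06000009040000090200000902000008000000080600000702000007000000070600000604000006000000060200000500000005060000040200000400000004060000030400000300000003060000020400000202000002060000010400000102000001000000011000000000000000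 else (prT_1_3 j)
def prT (j : ℕ) : ℕ := (prT_0_3 j)
noncomputable def prC (h : ℕ) : ℕ := Nat.rec (motive := fun _ => ℕ) (prT 0) (fun n _ => prT (Nat.succ n)) h
noncomputable def pr (i : ℕ) : ℕ := Nat.land (Nat.shiftRight (prC (Nat.shiftRight i 7)) (Nat.mul (Nat.land i 127) 32)) 4294967295
def invR (y : ℕ) : ℕ := invOf 0x40c2040 y
def Rc : List (List ℕ) := [[nat_lit 0, nat_lit 0],
  [nat_lit 1, nat_lit 1],
  [nat_lit 1, nat_lit 0, nat_lit 1, nat_lit 0, nat_lit 1, nat_lit 0, nat_lit 1, nat_lit 0, nat_lit 1, nat_lit 0],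
  [nat_lit 2, nat_lit 2],
  [nat_lit 2, nat_lit 0, nat_lit 2, nat_lit 0, nat_lit 2, nat_lit 0, nat_lit 2, nat_lit 0, nat_lit 2, nat_lit 0],
  [nat_lit 2, nat_lit 0, nat_lit 1, nat_lit 0, nat_lit 2, nat_lit 0, nat_lit 2, nat_lit 1, nat_lit 0, nat_lit 1, nat_lit 0],
  [nat_lit 3, nat_lit 3],
  [nat_lit 3, nat_lit 2, nat_lit 3, nat_lit 2],
  [nat_lit 0, nat_lit 2, nat_lit 3, nat_lit 0, nat_lit 3, nat_lit 2, nat_lit 0, nat_lit 1, nat_lit 3, nat_lit 1],
  [nat_lit 4, nat_lit 4],
  [nat_lit 3, nat_lit 0, nat_lit 3, nat_lit 0, nat_lit 3, nat_lit 0, nat_lit 3, nat_lit 0, nat_lit 3, nat_lit 0, nat_lit 3, nat_lit 0],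
  [nat_lit 2, nat_lit 1, nat_lit 2, nat_lit 1, nat_lit 2, nat_lit 1],
  [nat_lit 4, nat_lit 3, nat_lit 4, nat_lit 3, nat_lit 4, nat_lit 3, nat_lit 4, nat_lit 3, nat_lit 4, nat_lit 3],
  [nat_lit 0, nat_lit 3, nat_lit 4, nat_lit 2, nat_lit 3, nat_lit 4, nat_lit 3, nat_lit 4, nat_lit 3, nat_lit 0, nat_lit 4, nat_lit 1],
  [nat_lit 0, nat_lit 2, nat_lit 4, nat_lit 1, nat_lit 0, nat_lit 2, nat_lit 4, nat_lit 1, nat_lit 0, nat_lit 2, nat_lit 4, nat_lit 1],
  [nat_lit 1, nat_lit 4, nat_lit 2, nat_lit 4, nat_lit 2, nat_lit 3, nat_lit 1, nat_lit 4, nat_lit 2, nat_lit 4, nat_lit 3, nat_lit 2],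
  [nat_lit 4, nat_lit 1, nat_lit 4, nat_lit 2, nat_lit 0, nat_lit 2, nat_lit 4, nat_lit 1, nat_lit 4, nat_lit 1, nat_lit 2, nat_lit 1, nat_lit 0]]
def Tw : List (List ℕ) := [[nat_lit 0],
  [nat_lit 1],
  [nat_lit 2],
  [nat_lit 3],
  [nat_lit 0],
  [nat_lit 1],
  [nat_lit 2],
  [nat_lit 3],
  [nat_lit 4]]
def Sw : List (List ℕ) := [[nat_lit 0],
  [nat_lit 1],
  [nat_lit 2],
  [nat_lit 3]]
def ysR : List ℕ := [nat_lit 0, nat_lit 1, nat_lit 2, nat_lit 3, nat_lit 4]
noncomputable def chkAll (i : ℕ) : Bool := bif Nat.blt i 266 then and (chkPt tab invR 266 ysR Rc i) (bif Nat.beq i 0 then true else chkReachPt tab Tw i (pr i)) else true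
end Cfsg.Agent.Lib.ToddCox.J1T
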